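import Groth.Agent.HTop.K347.SheafifyQcqs
import Groth.Agent.HTop.K343.Topo

/-!
# The sheaf condition for a sieve, tested on affine schemes
-/

set_option autoImplicit false
universe w u

open CategoryTheory CategoryTheory.Limits AlgebraicGeometry Opposite

namespace K347.AffLoc

open K347.SheafifyQcqs

variable {S : Scheme.{u}} {F : (Over S)ᵒᵖ ⥤ Type w}

theorem map_map {X Y Z : Over S} (f : X ⟶ Y) (g : Y ⟶ Z) (x : F.obj (op Z)) :
    F.map f.op (F.map g.op x) = F.map (f ≫ g).op x := by
  rw [op_comp, F.map_comp]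
  rfl

theorem isSeparatedFor_of_affine (hF : Presieve.IsSheaf (Scheme.zariskiTopology.{u}.over S) F) {Y : Over S}
    (R : Sieve Y)
    (h : ∀ (T : Over S) (_ : IsAffine T.left) (g : T ⟶ Y), Presieve.IsSeparatedFor F (R.pullback g).arrows) :
    Presieve.IsSeparatedFor F R.arrows := by
  intro t x₁ x₂ h₁ h₂
  refine eq_of_isSheaf hF Y (fun U : Y.left.affineOpens => (U : Y.left.Opens)) (iSup_affineOpens_eq_top _) _ _
    fun U => ?_
  refine (h (oX Y U) U.2 (oι Y U)).ext fun Z f hf => ?_
  rw [map_map, map_map, h₁ _ hf, h₂ _ hf]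

theorem isSheafFor_of_affine (hF : Presieve.IsSheaf (Scheme.zariskiTopology.{u}.over S) F) {Y : Over S}
    (R : Sieve Y)
    (h : ∀ (T : Over S) (_ : IsAffine T.left) (g : T ⟶ Y), Presieve.IsSheafFor F (R.pullback g).arrows) :
    Presieve.IsSheafFor F R.arrows := by
  have hsep : ∀ {Z : Over S} (g : Z ⟶ Y), Presieve.IsSeparatedFor F (R.pullback g).arrows := by
    intro Z g
    refine isSeparatedFor_of_affine hF _ fun T hT k => ?_
    rw [← Sieve.pullback_comp]
    exact (h T hT _).isSeparatedFor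
  intro t ht
  choose s hs huniq using fun U : Y.left.affineOpens =>
    h (oX Y U) U.2 (oι Y U) (t.pullback (oι Y U)) (ht.pullback (oι Y U))
  have hcov : Sieve.generate (Presieve.ofArrows _ fun U : Y.left.affineOpens => oι Y U) ∈
      (Scheme.zariskiTopology.{u}.over S) Y :=
    mem_of_opens _ (fun U : Y.left.affineOpens => (U : Y.left.Opens)) (iSup_affineOpens_eq_top _)
      fun U => ⟨_, 𝟙 _, _, ⟨U⟩, Category.id_comp _⟩
  have hr : Presieve.Arrows.Compatible F (fun U : Y.left.affineOpens => oι Y U) s := by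
    intro U V Z gi gj hg
    refine (hsep (gi ≫ oι Y U)).ext fun W f hf => ?_
    have hf' : R ((f ≫ gi) ≫ oι Y U) := by rw [Category.assoc]; exact hf
    have hf'' : R ((f ≫ gj) ≫ oι Y V) := by rw [Category.assoc, ← hg]; exact hf
    rw [map_map, map_map, hs U (f ≫ gi) hf', hs V (f ≫ gj) hf'']
    dsimp only [Presieve.FamilyOfElements.pullback]
    congr 1
    rw [Category.assoc, Category.assoc, hg]
  have h0 : Presieve.IsSheafFor F (Presieve.ofArrows _ fun U : Y.left.affineOpens => oι Y U) := by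
    rw [Presieve.isSheafFor_iff_generate]
    exact hF _ hcov
  obtain ⟨t', ht', hunique⟩ := (Presieve.isSheafFor_arrows_iff _ _).mp h0 _ hr
  refine ⟨t', fun T f hf ↦ ?_, fun y hy ↦ ?_⟩
  · refine (hF _ ((Scheme.zariskiTopology.{u}.over S).pullback_stable f hcov)).isSeparatedFor.ext
      fun Z g hg ↦ ?_
    have key : ∀ {W : Over S} (w : Z ⟶ W) (u : W ⟶ Y)
        (_ : Presieve.ofArrows _ (fun U : Y.left.affineOpens => oι Y U) u) (_ : w ≫ u = g ≫ f),
        F.map g.op (F.map f.op t') = F.map g.op (t f hf) := by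
      rintro _ w _ ⟨U⟩ heq
      have h1 := R.downward_closed hf g
      rw [← heq] at h1
      rw [map_map, ← heq, ← map_map, ht' U, hs U w h1]
      have h2 : F.map g.op (t f hf) = t (g ≫ f) (R.downward_closed hf g) :=
        (Presieve.compatible_iff_sieveCompatible t).1 ht f g hf |>.symm
      rw [h2]
      dsimp only [Presieve.FamilyOfElements.pullback]
      congr 1
    obtain ⟨W, w, u, hu, heq⟩ := hg
    exact key w u hu heq
  · refine hunique _ fun U ↦ huniq _ _ fun Z g hg ↦ ?_
    rw [map_map]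
    exact hy _ hg

end K347.AffLoc
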