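import Groth.Agent.HTop.K347.Two
import Groth.Agent.HTop.K343.Topo
import Groth.Agent.CurvesC.BlowUpCharts
import Groth.Agent.Sga5.H855.Geom
import Groth.Agent.FlatA.ClosedFP
import Groth.Prelude.Def_HTop3
import Groth.Agent.S8982
import Groth.Agent.S8984
import Mathlib.RingTheory.Regular.RegularSequence

/-!
# Almost blow up squares with two-generated centre generate all of them
-/

set_option autoImplicit false
universe w u

open CategoryTheory CategoryTheory.Limits AlgebraicGeometry HTop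

namespace K347.CovA

open K347.Two

theorem ker_of_isPullback {P X Y Z : Scheme.{u}} {p : P ⟶ X} {q : P ⟶ Z} {f : X ⟶ Y} {i : Z ⟶ Y}
    (sq : IsPullback p q f i) [IsClosedImmersion i] : p.ker = i.ker.comap f := by
  rw [← Scheme.IdealSheafData.ker_fst_of_isClosedImmersion i f]
  have h : sq.isoPullback.hom ≫ pullback.fst f i = p := sq.isoPullback_hom_fst
  rw [← h, Scheme.Hom.ker_comp_of_isIso]

/-- The base change of an almost blow up square. -/
theorem exists_baseChange {E Z X' X Y : Scheme.{u}} {e : E ⟶ X'} {π : E ⟶ Z} {b : X' ⟶ X} {i : Z ⟶ X}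
    (h : IsAlmostBlowUpSquare e π b i) (g : Y ⟶ X) :
    ∃ (E₁ : Scheme.{u}) (e₁ : E₁ ⟶ pullback b g) (π₁ : E₁ ⟶ pullback i g),
      IsAlmostBlowUpSquare e₁ π₁ (pullback.snd b g) (pullback.snd i g) := by
  have hX : IsPullback (pullback.fst b g) (pullback.snd b g) b g := .of_hasPullback _ _
  have hZ : IsPullback (pullback.fst i g) (pullback.snd i g) i g := .of_hasPullback _ _
  have hE : IsPullback (pullback.fst e (pullback.fst b g)) (pullback.snd e (pullback.fst b g)) e
    (pullback.fst b g) := .of_hasPullback _ _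
  refine ⟨_, pullback.snd e (pullback.fst b g), hZ.lift (pullback.fst e (pullback.fst b g) ≫ π)
    (pullback.snd e (pullback.fst b g) ≫ pullback.snd b g) ?_, ?_⟩
  · rw [Category.assoc, ← h.isPullback.w, pullback.condition_assoc, Category.assoc, pullback.condition]
  · exact Groth.Agent.S8982.result h g hX hZ hE (hZ.lift_snd _ _ _)

theorem isPrincipal_comap_ι {X : Scheme.{u}} (J : X.IdealSheafData) (U : X.affineOpens) (f : Γ(X, U))
    (hf : J.ideal U = Ideal.span {f}) : ∃ g : Γ(((U : X.Opens) : Scheme.{u}), ⊤),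
      (J.comap (U : X.Opens).ι).ideal ⟨⊤, @isAffineOpen_top _ U.2⟩ = Ideal.span {g} := by
  have key : ∀ V : X.affineOpens, V = U → ∃ g : Γ(X, V), J.ideal V = Ideal.span {g} := by
    rintro _ rfl
    exact ⟨f, hf⟩
  rw [Scheme.IdealSheafData.ideal_comap_of_isOpenImmersion]
  obtain ⟨g, hg⟩ := key ⟨(U : X.Opens).ι ''ᵁ ⊤, _⟩ (Subtype.ext (Scheme.Opens.ι_image_top _))
  rw [hg]
  let φ := ((U : X.Opens).ι.appIso ⊤)
  have hbij : Function.Bijective φ.inv.hom := ConcreteCategory.bijective_of_isIso φ.inv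
  obtain ⟨g', hg'⟩ := hbij.2 g
  refine ⟨g', ?_⟩
  have h1 : (Ideal.span {g'}).map φ.inv.hom = Ideal.span {g} := by
    rw [Ideal.map_span, Set.image_singleton, hg']
  exact (congrArg (Ideal.comap φ.inv.hom) h1.symm).trans (Ideal.comap_map_of_bijective _ hbij)

theorem ideal_eq_map {X Y : Scheme.{u}} [IsAffine X] [IsAffine Y] (g : Y ⟶ X) (I : Ideal Γ(X, ⊤)) :
    ((Scheme.IdealSheafData.ofIdealTop I).comap g).ideal ⟨⊤, isAffineOpen_top Y⟩ = I.map g.appTop.hom := by
  rw [Groth.Agent.CurvesC.BlowUpCharts.comap_ofIdealTop, Scheme.IdealSheafData.ofIdealTop_ideal, Ideal.map_map]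
  congr 1
  have : Y.presheaf.map (homOfLE (le_top : (⊤ : Y.Opens) ≤ ⊤)).op = 𝟙 _ := by
    rw [← Y.presheaf.map_id]
    rfl
  rw [this]
  rfl

theorem isFiniteTypeIdeal_ofIdealTop {X : Scheme.{u}} (I : Ideal Γ(X, ⊤)) (hI : I.FG) :
    BlowUp.IsFiniteTypeIdeal (Scheme.IdealSheafData.ofIdealTop I) := by
  intro U
  rw [Scheme.IdealSheafData.ofIdealTop_ideal]
  exact hI.map _

theorem subschemeι_appTop_eq_zero {X : Scheme.{u}} [IsAffine X] (I : Ideal Γ(X, ⊤)) (a : Γ(X, ⊤)) (ha : a ∈ I) :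
    (Scheme.IdealSheafData.ofIdealTop I).subschemeι.appTop.hom a = 0 := by
  have h1 := (Scheme.IdealSheafData.ofIdealTop I).ker_subschemeι_app ⟨⊤, isAffineOpen_top X⟩
  have h2 : a ∈ (Scheme.IdealSheafData.ofIdealTop I).ideal ⟨⊤, isAffineOpen_top X⟩ := by
    rw [Scheme.IdealSheafData.ofIdealTop_ideal]
    have := Ideal.mem_map_of_mem (X.presheaf.map (homOfLE (le_top : (⊤ : X.Opens) ≤ ⊤)).op).hom ha
    have e : X.presheaf.map (homOfLE (le_top : (⊤ : X.Opens) ≤ ⊤)).op = 𝟙 _ := by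
      rw [← X.presheaf.map_id]
      rfl
    rw [e] at this ⊢
    exact this
  rw [← h1] at h2
  exact h2

variable {L : GrothendieckTopology Scheme.{u}}

/-- **Induction on the number of generators of the centre.** -/
theorem two_mem_of_list (hZ : Scheme.zariskiTopology ≤ L)
    (hAB2 : ∀ {E Z X' X : Scheme.{u}} (e : E ⟶ X') (π : E ⟶ Z) (b : X' ⟶ X) (i : Z ⟶ X), IsAffine X →
      IsAlmostBlowUpSquare e π b i →
      (∃ f₁ f₂ : Γ(X, ⊤), i.ker = Scheme.IdealSheafData.ofIdealTop (Ideal.span {f₁, f₂})) → two i b ∈ L X)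
    (n : ℕ) : ∀ {E Z X' X : Scheme.{u}} (e : E ⟶ X') (π : E ⟶ Z) (b : X' ⟶ X) (i : Z ⟶ X), IsAffine X →
      IsAlmostBlowUpSquare e π b i → ∀ l : List Γ(X, ⊤), l.length = n →
        i.ker = Scheme.IdealSheafData.ofIdealTop (Ideal.ofList l) → two i b ∈ L X := by
  induction n using Nat.strong_induction_on with
  | _ n ih =>
  intro E Z X' X e π b i hX hsq l hl hi
  match l with
  | [] =>
    refine hAB2 e π b i hX hsq ⟨0, 0, ?_⟩
    rw [hi]
    congr 1
    simp
  | [f] =>
    refine hAB2 e π b i hX hsq ⟨f, f, ?_⟩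
    rw [hi]
    congr 1
    simp
  | f₁ :: f₂ :: l' =>
    have hcl := hsq.isClosedImmersion
    let I₂ : Ideal Γ(X, ⊤) := Ideal.span {f₁, f₂}
    let J₂ := Scheme.IdealSheafData.ofIdealTop I₂
    have hft : BlowUp.IsFiniteTypeIdeal J₂ :=
      isFiniteTypeIdeal_ofIdealTop I₂ ((Submodule.fg_span ((Set.finite_singleton f₂).insert f₁)))
    have hlfp : LocallyOfFinitePresentation J₂.subschemeι :=
      Groth.Agent.FlatA.ClosedFP.locallyOfFinitePresentation_subschemeι J₂ hft
    have hsplit : Ideal.ofList (f₁ :: f₂ :: l') = I₂ ⊔ Ideal.ofList l' := by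
      rw [Ideal.ofList_cons, Ideal.ofList_cons, ← sup_assoc, ← Ideal.span_insert]
    obtain ⟨E₂, X₂, e₂, π₂, b₂, hsq₂⟩ := Groth.Agent.S8984.result J₂.subschemeι
    have h2 : two J₂.subschemeι b₂ ∈ L X := hAB2 e₂ π₂ b₂ _ hX hsq₂ ⟨f₁, f₂, J₂.ker_subschemeι⟩
    -- base change of the square to an affine scheme
    have key : ∀ {Y : Scheme.{u}} [IsAffine Y] (g : Y ⟶ X) (l'' : List Γ(Y, ⊤)), l''.length < n →
        (Ideal.ofList (f₁ :: f₂ :: l')).map g.appTop.hom = Ideal.ofList l'' →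
        (two i b).pullback g ∈ L Y := by
      intro Y _ g l'' hl'' hg
      obtain ⟨E₁, e₁, π₁, hsq₁⟩ := exists_baseChange hsq g
      rw [two_pullback g (.of_hasPullback b g) (.of_hasPullback i g)]
      refine ih _ hl'' e₁ π₁ _ _ inferInstance hsq₁ l'' rfl ?_
      rw [ker_of_isPullback (IsPullback.of_hasPullback i g).flip, hi,
        Groth.Agent.CurvesC.BlowUpCharts.comap_ofIdealTop, hg]
    refine mem_of_two_mem h2 ?_ ?_
    · have : IsAffine J₂.subscheme := isAffine_of_isAffineHom J₂.subschemeι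
      refine key J₂.subschemeι (l'.map J₂.subschemeι.appTop.hom) ?_ ?_
      · rw [List.length_map, ← hl, List.length_cons, List.length_cons]
        omega
      · rw [hsplit, Ideal.map_sup, Ideal.map_ofList, sup_eq_right, Ideal.map_span, Ideal.span_le]
        rintro _ ⟨a, ha, rfl⟩
        have h3 : J₂.subschemeι.appTop.hom a = 0 := subschemeι_appTop_eq_zero I₂ a (Ideal.subset_span ha)
        rw [h3]
        exact zero_mem _
    · refine K343.Topo.mem_of_zariski_local L hZ _ fun x => ?_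
      obtain ⟨U, hxU, f, hf⟩ := hsq₂.locPrincipal x
      refine ⟨_, (U : X₂.Opens).ι, inferInstance, by rwa [Scheme.Opens.range_ι], ?_⟩
      rw [← Sieve.pullback_comp]
      have : IsAffine ((U : X₂.Opens) : Scheme.{u}) := U.2
      obtain ⟨g, hg⟩ := isPrincipal_comap_ι _ U f hf
      rw [← Scheme.IdealSheafData.comap_comp, J₂.ker_subschemeι, ideal_eq_map] at hg
      refine key ((U : X₂.Opens).ι ≫ b₂) (g :: l'.map ((U : X₂.Opens).ι ≫ b₂).appTop.hom) ?_ ?_
      · rw [List.length_cons, List.length_map, ← hl, List.length_cons, List.length_cons]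
        omega
      · rw [hsplit, Ideal.map_sup, Ideal.map_ofList, Ideal.ofList_cons, hg]

/-- Every almost blow up square is covering as soon as those over affine schemes with two-generated centre
are. -/
theorem two_mem (hZ : Scheme.zariskiTopology ≤ L)
    (hAB2 : ∀ {E Z X' X : Scheme.{u}} (e : E ⟶ X') (π : E ⟶ Z) (b : X' ⟶ X) (i : Z ⟶ X), IsAffine X →
      IsAlmostBlowUpSquare e π b i →
      (∃ f₁ f₂ : Γ(X, ⊤), i.ker = Scheme.IdealSheafData.ofIdealTop (Ideal.span {f₁, f₂})) → two i b ∈ L X)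
    {E Z X' X : Scheme.{u}} {e : E ⟶ X'} {π : E ⟶ Z} {b : X' ⟶ X} {i : Z ⟶ X}
    (hsq : IsAlmostBlowUpSquare e π b i) : two i b ∈ L X := by
  refine K343.Topo.mem_of_zariski_local L hZ _ fun x => ?_
  obtain ⟨_, ⟨U, hU, rfl⟩, hxU, -⟩ := X.isBasis_affineOpens.exists_subset_of_mem_open (Set.mem_univ x) isOpen_univ
  refine ⟨_, Scheme.Opens.ι U, inferInstance, by rwa [Scheme.Opens.range_ι], ?_⟩
  have : IsAffine (Scheme.Opens.toScheme U) := hU
  rw [two_pullback (Scheme.Opens.ι U) (.of_hasPullback b (Scheme.Opens.ι U)) (.of_hasPullback i (Scheme.Opens.ι U))]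
  obtain ⟨E₁, e₁, π₁, hsq₁⟩ := exists_baseChange hsq (Scheme.Opens.ι U)
  have hcl := hsq₁.isClosedImmersion
  have hlfp := hsq₁.finitePresentation_base
  obtain ⟨s, hs⟩ := Groth.Agent.Sga5.H855.Geom.isFiniteTypeIdeal_ker (pullback.snd i (Scheme.Opens.ι U))
    ⟨⊤, isAffineOpen_top _⟩
  refine two_mem_of_list hZ hAB2 _ e₁ π₁ _ _ inferInstance hsq₁ s.toList rfl ?_
  have h1 : Ideal.ofList s.toList = (pullback.snd i (Scheme.Opens.ι U)).ker.ideal ⟨⊤, isAffineOpen_top _⟩ := by
    rw [← hs]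
    unfold Ideal.ofList
    congr 1
    ext a
    simp
  rw [h1]
  exact (Scheme.IdealSheafData.equivOfIsAffine.symm_apply_apply _).symm

end K347.CovA
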