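import Groth.Agent.HTop.K347.Two
import Groth.Agent.HTop.K343.Topo
import Groth.Agent.Flat2C.StrictTr
import Groth.Agent.Flat2C.BlowProper
import Groth.Agent.Divis.BlowUpFormal
import Groth.Agent.Subtr.K835.Basic
import Groth.Agent.S14793
import Groth.Agent.Flat2C.GenericReduced
import Groth.Prelude.Def_HTop3
import Mathlib.AlgebraicGeometry.Noetherian

/-!
# Proper surjective morphisms to Noetherian schemes are generated by flat ones and blow ups
-/

set_option autoImplicit false
universe w u

open CategoryTheory CategoryTheory.Limits AlgebraicGeometry HTop TopologicalSpace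

namespace K347.CovB

open K347.Two

/-- A blow up square over a locally Noetherian scheme is an almost blow up square. -/
theorem noeth_square {E Z X' X : Scheme.{u}} {e : E ⟶ X'} {π : E ⟶ Z} {b : X' ⟶ X} {i : Z ⟶ X}
    [IsLocallyNoetherian X] [IsClosedImmersion i] (hb : BlowUp.IsBlowUp b i.ker) (hsq : IsPullback e π b i) :
    IsAlmostBlowUpSquare e π b i := by
  have hi : LocallyOfFinitePresentation i := LocallyOfFinitePresentation.iff_locallyOfFiniteType.2 inferInstance
  have hft : BlowUp.IsFiniteTypeIdeal i.ker := fun U =>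
    @IsNoetherian.noetherian _ _ _ _ _ (IsLocallyNoetherian.component_noetherian U) _
  have hp : IsProper b := Groth.Agent.Flat2C.BlowProper.isProper_of_isBlowUp hb hft
  have hbf : LocallyOfFinitePresentation b := LocallyOfFinitePresentation.iff_locallyOfFiniteType.2 inferInstance
  refine ⟨inferInstance, hi, hsq, Groth.Agent.Flat2C.StrictTr.isLocPrincipal_of_isEff hb.1, hp, hbf, ?_⟩
  have h0 : supportedOn (i.ker.comap b) = ⊥ := Groth.Agent.Flat2C.StrictTr.killedIdeal_eq_bot_of_isEff hb.1
  rw [h0]
  exact Groth.Agent.Divis.BlowUpFormal.isBlowUp_of_iso hb (asIso (Scheme.IdealSheafData.subschemeι ⊥)) rfl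

theorem isEmpty_of_isEff {Y X : Scheme.{u}} {I : X.IdealSheafData} (hI : (I.support : Set X) = Set.univ)
    (g : Y ⟶ X) (h : BlowUp.IsEffCartierIdeal (I.comap g)) : IsEmpty Y := by
  have h1 : ((I.comap g).support : Set Y) = Set.univ := by
    rw [Scheme.IdealSheafData.support_comap]
    change g ⁻¹' (I.support : Set X) = _
    rw [hI, Set.preimage_univ]
  have h2 := Groth.Agent.Flat2C.StrictTr.closure_compl_of_isEff h
  rw [Groth.Agent.Flat2C.StrictTr.coe_compl, h1, Set.compl_univ, closure_empty] at h2
  exact ⟨fun y => (Set.mem_empty_iff_false y).1 (h2 ▸ Set.mem_univ y)⟩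

/-- For a surjective closed immersion of finite presentation, the almost blow up square with empty blow up. -/
theorem empty_square {Z X : Scheme.{u}} (i : Z ⟶ X) [IsClosedImmersion i] [LocallyOfFinitePresentation i]
    [Surjective i] : IsAlmostBlowUpSquare (𝟙 (∅ : Scheme.{u})) (Scheme.emptyTo Z) (Scheme.emptyTo X) i := by
  have hsup : (i.ker.support : Set X) = Set.univ := by
    rw [Scheme.Hom.support_ker, i.surjective.range_eq, closure_univ]
  refine ⟨inferInstance, inferInstance, ?_, fun x => x.elim, inferInstance, inferInstance, ?_⟩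
  · have hw : 𝟙 (∅ : Scheme.{u}) ≫ Scheme.emptyTo X = Scheme.emptyTo Z ≫ i :=
      (Scheme.eq_emptyTo _).trans (Scheme.eq_emptyTo _).symm
    refine ⟨⟨hw⟩, ⟨PullbackCone.IsLimit.mk hw (fun s => s.fst) (fun s => Category.comp_id _) (fun s => ?_)
      (fun s m h1 _ => (Category.comp_id m).symm.trans h1)⟩⟩
    rw [← cancel_mono i, Category.assoc, ← hw, Category.id_comp]
    exact s.condition
  · constructor
    · intro x
      exact ((supportedOn (i.ker.comap (Scheme.emptyTo X))).subschemeι x).elim
    · intro Y g hg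
      have := isEmpty_of_isEff hsup g hg
      exact ⟨isInitialOfIsEmpty.to _, isInitialOfIsEmpty.hom_ext _ _, fun _ _ => isInitialOfIsEmpty.hom_ext _ _⟩

variable {L : GrothendieckTopology Scheme.{u}}

theorem mem_of_isEmpty (hZ : Scheme.zariskiTopology ≤ L) {X : Scheme.{u}} [IsEmpty X] (R : Sieve X) : R ∈ L X := by
  apply hZ
  rw [K343.Topo.mem_zariski_iff]
  intro x
  exact (IsEmpty.false x).elim

/-- Membership can be tested after restriction to a surjective closed immersion of finite presentation. -/
theorem mem_of_pullback_mem (hZ : Scheme.zariskiTopology ≤ L)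
    (hAB : ∀ {E Z X' X : Scheme.{u}} {e : E ⟶ X'} {π : E ⟶ Z} {b : X' ⟶ X} {i : Z ⟶ X},
      IsAlmostBlowUpSquare e π b i → two i b ∈ L X)
    {Z X : Scheme.{u}} (i : Z ⟶ X) [IsClosedImmersion i] [LocallyOfFinitePresentation i] [Surjective i]
    {R : Sieve X} (h : R.pullback i ∈ L Z) : R ∈ L X :=
  mem_of_two_mem (hAB (empty_square i)) h (mem_of_isEmpty hZ _)

theorem generate_pullback_le {V U W : Scheme.{u}} (f : V ⟶ U) (g : W ⟶ U) :
    Sieve.generate (Presieve.singleton (pullback.snd f g)) ≤
      (Sieve.generate (Presieve.singleton f)).pullback g := by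
  rintro T _ ⟨_, k, _, ⟨⟩, rfl⟩
  exact ⟨_, k ≫ pullback.fst f g, _, ⟨⟩, by rw [Category.assoc, pullback.condition, Category.assoc]⟩

/-- The sieve generated by a morphism is covering if it is so over affine opens of the target. -/
theorem generate_mem_of_affine (hZ : Scheme.zariskiTopology ≤ L) {V U : Scheme.{u}} (f : V ⟶ U)
    (h : ∀ W : U.Opens, IsAffineOpen W → Sieve.generate (Presieve.singleton (pullback.snd f W.ι)) ∈ L W) :
    Sieve.generate (Presieve.singleton f) ∈ L U := by
  refine K343.Topo.mem_of_zariski_local L hZ _ fun x => ?_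
  obtain ⟨_, ⟨W, hW, rfl⟩, hxW, -⟩ := U.isBasis_affineOpens.exists_subset_of_mem_open (Set.mem_univ x) isOpen_univ
  refine ⟨_, Scheme.Opens.ι W, inferInstance, by rwa [Scheme.Opens.range_ι], ?_⟩
  exact L.superset_covering (generate_pullback_le f _) (h W hW)

theorem finite_generic {Y : Scheme.{u}} [IsNoetherian Y] : {y : Y | ∀ y' : Y, y' ⤳ y → y' = y}.Finite := by
  refine (genericPoints.finite (NoetherianSpace.finite_irreducibleComponents (α := Y))).subset ?_
  intro y hy
  obtain ⟨η, hη⟩ := QuasiSober.sober (isIrreducible_irreducibleComponent (x := y)) isClosed_irreducibleComponent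
  have h1 : η ⤳ y := by
    rw [specializes_iff_mem_closure, hη.def]
    exact mem_irreducibleComponent
  have h2 := hy η h1
  subst h2
  change closure {η} ∈ irreducibleComponents Y
  rw [hη.def]
  exact irreducibleComponent_mem_irreducibleComponents η

/-- **Dévissage** over a Noetherian scheme: proper surjective morphisms are covering as soon as the flat ones of
finite presentation and the almost blow up squares are. -/
theorem generate_mem_of_isNoetherian (hZ : Scheme.zariskiTopology ≤ L)
    (hAB : ∀ {E Z X' X : Scheme.{u}} {e : E ⟶ X'} {π : E ⟶ Z} {b : X' ⟶ X} {i : Z ⟶ X},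
      IsAlmostBlowUpSquare e π b i → two i b ∈ L X)
    (hF : ∀ {V U : Scheme.{u}} (f : V ⟶ U), IsAffine U → Surjective f → Flat f → IsProper f →
      LocallyOfFinitePresentation f → Sieve.generate (Presieve.singleton f) ∈ L U)
    {V U : Scheme.{u}} [IsNoetherian U] (f : V ⟶ U) [IsProper f] [Surjective f] :
    Sieve.generate (Presieve.singleton f) ∈ L U := by
  have key : ∀ (Z : Closeds U) (T : Scheme.{u}) (j : T ⟶ U) [IsClosedImmersion j], Set.range j = (Z : Set U) →
      (Sieve.generate (Presieve.singleton f)).pullback j ∈ L T := by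
    intro Z
    induction Z using WellFoundedLT.induction with
    | _ Z ih =>
    intro T j _ hj
    have hT1 : IsLocallyNoetherian T := LocallyOfFiniteType.isLocallyNoetherian j
    let Y := T.nilradical.subscheme
    let k : Y ⟶ T := T.nilradical.subschemeι
    have hY : IsReduced Y := Groth.Agent.Flat2C.GenericReduced.isReduced_subscheme_nilradical T
    have hks : Surjective k := ⟨by
      rw [← Set.range_eq_univ, Scheme.IdealSheafData.range_subschemeι, Scheme.support_nilradical]
      rfl⟩
    have hk : LocallyOfFinitePresentation k := LocallyOfFinitePresentation.iff_locallyOfFiniteType.2 inferInstance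
    refine mem_of_pullback_mem hZ hAB k ?_
    rw [← Sieve.pullback_comp]
    have hY1 : IsLocallyNoetherian Y := LocallyOfFiniteType.isLocallyNoetherian k
    have hY2 : CompactSpace Y := (quasiCompact_iff_compactSpace (k ≫ j)).mp inferInstance
    have hY3 : IsNoetherian Y := ⟨⟩
    rcases isEmpty_or_nonempty Y with hemp | hne
    · exact mem_of_isEmpty hZ _
    let fY : pullback f (k ≫ j) ⟶ Y := pullback.snd f (k ≫ j)
    have hlfp : LocallyOfFinitePresentation fY :=
      LocallyOfFinitePresentation.iff_locallyOfFiniteType.2 inferInstance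
    obtain ⟨O, 𝓘, Y', b, hO, -, hb, hadm, hbs, hst⟩ := Groth.Agent.S14793.result (finite_generic.isCompact)
      fY (K835.Basic.of_universallyClosed fY)
    have h2 : two 𝓘.subschemeι b ∈ L Y :=
      hAB (noeth_square (𝓘.ker_subschemeι.symm ▸ hb) (IsPullback.of_hasPullback b 𝓘.subschemeι))
    refine mem_of_two_mem h2 ?_ ?_
    · rw [← Sieve.pullback_comp]
      refine ih ⟨Set.range (𝓘.subschemeι ≫ k ≫ j), (𝓘.subschemeι ≫ k ≫ j).isClosedEmbedding.isClosed_range⟩
        ?_ _ (𝓘.subschemeι ≫ k ≫ j) rfl
      refine lt_of_le_of_ne ?_ ?_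
      · rintro _ ⟨z, rfl⟩
        change _ ∈ (Z : Set U)
        rw [← hj, Scheme.Hom.comp_apply, Scheme.Hom.comp_apply]
        exact ⟨_, rfl⟩
      · intro heq
        obtain ⟨y, hy⟩ := hO.nonempty
        have h3 : j (k y) ∈ (Z : Set U) := hj ▸ ⟨k y, rfl⟩
        rw [← heq] at h3
        obtain ⟨z, hz⟩ := h3
        have h4 : 𝓘.subschemeι z = y := by
          apply (k ≫ j).isClosedEmbedding.injective
          rw [Scheme.Hom.comp_apply, Scheme.Hom.comp_apply, ← hz, Scheme.Hom.comp_apply, Scheme.Hom.comp_apply]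
        have h5 : y ∈ (𝓘.support : Set Y) := by
          rw [← Scheme.IdealSheafData.range_subschemeι]
          exact ⟨z, h4⟩
        exact Set.disjoint_left.1 hadm.2 h5 hy
    · let p₁ : pullback fY b ⟶ pullback f (k ≫ j) := pullback.fst fY b
      let p₂ : pullback fY b ⟶ Y' := pullback.snd fY b
      have hE : (𝓘.comap fY).comap p₁ = (𝓘.comap b).comap p₂ := by
        rw [← Scheme.IdealSheafData.comap_comp, ← Scheme.IdealSheafData.comap_comp]
        congr 1
        exact pullback.condition
      have hft : BlowUp.IsFiniteTypeIdeal ((𝓘.comap fY).comap p₁) := by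
        rw [hE]
        exact ((Groth.Agent.Flat2C.StrictTr.isLocPrincipal_of_isEff hb.1).comap p₂).isFiniteTypeIdeal
      obtain ⟨g1, g2, g3, -, -⟩ := hst _ p₁ p₂ (IsPullback.of_hasPullback fY b)
        (Groth.Agent.Flat2C.StrictTr.killedIdeal ((𝓘.comap fY).comap p₁))
        (Groth.Agent.Flat2C.StrictTr.isKilledIdeal_killedIdeal hft)
      set 𝒥 := Groth.Agent.Flat2C.StrictTr.killedIdeal ((𝓘.comap fY).comap p₁)
      have h6 : Sieve.generate (Presieve.singleton (𝒥.subschemeι ≫ p₂)) ∈ L Y' := by
        refine generate_mem_of_affine hZ _ fun W hW => ?_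
        exact hF _ hW inferInstance inferInstance inferInstance inferInstance
      refine L.superset_covering ?_ h6
      rw [Sieve.generate_le_iff]
      rintro _ _ ⟨⟩
      refine ⟨_, 𝒥.subschemeι ≫ p₁ ≫ pullback.fst f (k ≫ j), _, ⟨⟩, ?_⟩
      have e : p₁ ≫ fY ≫ (k ≫ j) = p₂ ≫ b ≫ (k ≫ j) :=
        (Category.assoc _ _ _).symm.trans ((congrArg (fun z => z ≫ k ≫ j)
          (pullback.condition (f := fY) (g := b))).trans (Category.assoc _ _ _))
      have e' : pullback.fst f (k ≫ j) ≫ f = fY ≫ (k ≫ j) := pullback.condition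
      change (𝒥.subschemeι ≫ p₁ ≫ pullback.fst f (k ≫ j)) ≫ f = (𝒥.subschemeι ≫ p₂) ≫ b ≫ (k ≫ j)
      rw [Category.assoc, Category.assoc, e', Category.assoc, e]
  have h := key ⊤ U (𝟙 U) (by simp)
  rwa [Sieve.pullback_id] at h

end K347.CovB
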