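import Groth.Agent.HTop.K347.CovB
import Groth.Agent.Ega3B.LimInv3
import Groth.Agent.PicF.K246.Basic
import Mathlib.RingTheory.Spectrum.Prime.Topology

/-!
# Proper surjective morphisms of finite presentation are generated by flat ones and almost blow up squares
-/

set_option autoImplicit false
universe w u

open CategoryTheory CategoryTheory.Limits AlgebraicGeometry HTop TopologicalSpace

namespace K347.CovC

open K347.Two K347.CovB

/-- Noetherian model of a proper surjective morphism of finite presentation. -/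
theorem exists_model (A : Type u) [CommRing A] {X : Scheme.{u}} (f : X ⟶ Spec (CommRingCat.of A))
    [IsProper f] [LocallyOfFinitePresentation f] [Surjective f] :
    ∃ (S : Subalgebra ℤ A) (_ : S.FG) (X₀ : Scheme.{u}) (f₀ : X₀ ⟶ Spec (CommRingCat.of S)) (p : X ⟶ X₀),
      IsPullback p f f₀ (Spec.map (CommRingCat.ofHom S.val.toRingHom)) ∧ IsProper f₀ ∧
      LocallyOfFinitePresentation f₀ ∧ Surjective f₀ := by
  obtain ⟨S, hS, X₀, f₀, p, L₀, h1, h2, h3, -, -⟩ := Groth.Agent.Ega3B.LimInv.exists_proper_model_Spec A f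
    (K246.Basic.isInvertible_structureModule X)
  refine ⟨S, hS, X₀, f₀, p, h1, h2, h3, ⟨?_⟩⟩
  have h4 : IsClosed (Set.range f₀) := f₀.isClosedMap.isClosed_range
  have h5 : DenseRange (PrimeSpectrum.comap S.val.toRingHom) := by
    rw [PrimeSpectrum.denseRange_comap_iff_ker_le_nilRadical]
    have h6 : RingHom.ker S.val.toRingHom = ⊥ := by
      rw [← RingHom.injective_iff_ker_eq_bot]
      exact Subtype.val_injective
    rw [h6]
    exact bot_le
  have h6 : Set.range (PrimeSpectrum.comap S.val.toRingHom) ⊆ Set.range f₀ := by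
    rintro _ ⟨x, rfl⟩
    obtain ⟨y, hy⟩ := f.surjective x
    refine ⟨p y, ?_⟩
    have := congrArg (fun g : X ⟶ Spec (CommRingCat.of S) => g y) h1.w
    simp only [Scheme.Hom.comp_apply] at this
    rw [this, hy]
    rfl
  rw [← Set.range_eq_univ, ← h4.closure_eq]
  exact (h5.mono h6).closure_eq

variable {L : GrothendieckTopology Scheme.{u}}

/-- **Dévissage**: proper surjective morphisms of finite presentation onto affine schemes are covering as soon as the
flat ones and the almost blow up squares are. -/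
theorem generate_mem (hZ : Scheme.zariskiTopology ≤ L)
    (hAB : ∀ {E Z X' X : Scheme.{u}} {e : E ⟶ X'} {π : E ⟶ Z} {b : X' ⟶ X} {i : Z ⟶ X},
      IsAlmostBlowUpSquare e π b i → two i b ∈ L X)
    (hF : ∀ {V U : Scheme.{u}} (f : V ⟶ U), IsAffine U → Surjective f → Flat f → IsProper f →
      LocallyOfFinitePresentation f → Sieve.generate (Presieve.singleton f) ∈ L U)
    {V U : Scheme.{u}} [IsAffine U] (f : V ⟶ U) [IsProper f] [Surjective f] [LocallyOfFinitePresentation f] :
    Sieve.generate (Presieve.singleton f) ∈ L U := by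
  obtain ⟨S, hS, X₀, f₀, p, h1, h2, h3, h4⟩ := exists_model Γ(U, ⊤) (f ≫ U.isoSpec.hom)
  have : IsNoetherianRing S := isNoetherianRing_of_fg hS
  have h5 := generate_mem_of_isNoetherian hZ hAB hF f₀
  have h6 := L.pullback_stable (U.isoSpec.hom ≫ Spec.map (CommRingCat.ofHom S.val.toRingHom)) h5
  refine L.superset_covering ?_ h6
  rintro T g ⟨_, k, _, ⟨⟩, hk⟩
  refine ⟨_, h1.lift k (g ≫ U.isoSpec.hom) (by rw [Category.assoc]; exact hk), _, ⟨⟩, ?_⟩
  rw [← cancel_mono U.isoSpec.hom, Category.assoc]
  exact h1.lift_snd _ _ _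

end K347.CovC
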