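import Groth.Agent.HTop.K347.CovA
import Groth.Agent.HTop.K347.CovC
import Groth.Agent.HTop.K347.AffLoc

/-!
# The h-sheaf criterion with flat proper surjective morphisms and almost blow up squares
-/

set_option autoImplicit false
universe w u

open CategoryTheory CategoryTheory.Limits AlgebraicGeometry HTop Opposite

namespace K347.CovD

open K347.Two K343.Topo K347.AffLoc K347.SheafifyQcqs

variable {S : Scheme.{u}} {F : (Over S)ᵒᵖ ⥤ Type w}

theorem ov_two {T : Over S} {Z₁ X₁ : Scheme.{u}} (i₁ : Z₁ ⟶ T.left) (b₁ : X₁ ⟶ T.left) :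
    ov T (two i₁ b₁) = two (Over.homMk i₁ rfl : Over.mk (i₁ ≫ T.hom) ⟶ T)
      (Over.homMk b₁ rfl : Over.mk (b₁ ≫ T.hom) ⟶ T) := by
  ext W g
  constructor
  · rintro (⟨k, hk⟩ | ⟨k, hk⟩)
    · refine Or.inl ⟨Over.homMk k ?_, ?_⟩
      · change k ≫ i₁ ≫ T.hom = W.hom
        rw [← Category.assoc, hk, Over.w]
      · ext1
        exact hk
    · refine Or.inr ⟨Over.homMk k ?_, ?_⟩
      · change k ≫ b₁ ≫ T.hom = W.hom
        rw [← Category.assoc, hk, Over.w]
      · ext1
        exact hk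
  · rintro (⟨k, rfl⟩ | ⟨k, rfl⟩)
    · exact Or.inl ⟨k.left, rfl⟩
    · exact Or.inr ⟨k.left, rfl⟩

/-- Almost blow up squares whose centre satisfies `Q` are covering for the finest topology of a Zariski sheaf which
turns them (over affine schemes) into cartesian squares. -/
theorem two_mem_shTop (hF : Presieve.IsSheaf (Scheme.zariskiTopology.{u}.over S) F)
    (Q : ∀ {Z X : Scheme.{u}}, (Z ⟶ X) → Prop)
    (hQ : ∀ {Z X T : Scheme.{u}} (i : Z ⟶ X) (g : T ⟶ X), IsClosedImmersion i → IsAffine X → IsAffine T →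
      Q i → Q (pullback.snd i g))
    (hsq : ∀ (E Z X' X : Over S) (e : E ⟶ X') (π : E ⟶ Z) (b : X' ⟶ X) (i : Z ⟶ X), IsAffine X.left →
      IsAlmostBlowUpSquare e.left π.left b.left i.left → Q i.left →
      ∀ (t : F.obj (op Z)) (s' : F.obj (op X')), F.map π.op t = F.map e.op s' →
        ∃! s : F.obj (op X), F.map i.op s = t ∧ F.map b.op s = s')
    {E Z X' X : Scheme.{u}} (e : E ⟶ X') (π : E ⟶ Z) (b : X' ⟶ X) (i : Z ⟶ X) (hX : IsAffine X)
    (h : IsAlmostBlowUpSquare e π b i) (hi : Q i) : two i b ∈ shTop F X := by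
  intro Y g
  refine isSheafFor_of_affine hF _ fun T hT k => ?_
  rw [ov_pullback, ← Sieve.pullback_comp]
  obtain ⟨E₁, e₁, π₁, h₁⟩ := CovA.exists_baseChange h (k.left ≫ g)
  rw [two_pullback (k.left ≫ g) (.of_hasPullback b _) (.of_hasPullback i _), ov_two]
  have hw : e₁ ≫ pullback.snd b (k.left ≫ g) = π₁ ≫ pullback.snd i (k.left ≫ g) := h₁.isPullback.w
  let e' : Over.mk (e₁ ≫ pullback.snd b (k.left ≫ g) ≫ T.hom) ⟶ Over.mk (pullback.snd b (k.left ≫ g) ≫ T.hom) :=
    Over.homMk e₁ rfl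
  let π' : Over.mk (e₁ ≫ pullback.snd b (k.left ≫ g) ≫ T.hom) ⟶ Over.mk (pullback.snd i (k.left ≫ g) ≫ T.hom) :=
    Over.homMk π₁ (by
      change π₁ ≫ pullback.snd i (k.left ≫ g) ≫ T.hom = e₁ ≫ pullback.snd b (k.left ≫ g) ≫ T.hom
      rw [← Category.assoc, ← hw, Category.assoc])
  refine isSheafFor_two (e := e') (π := π') ?_ ?_
  · ext1
    exact hw
  · exact hsq _ _ _ _ e' π' _ _ hT h₁ (hQ i _ h.isClosedImmersion hX hT hi)

/-- The sieve generated by a morphism over `S`. -/
theorem ov_generate {T : Over S} {V : Scheme.{u}} (f : V ⟶ T.left) :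
    ov T (Sieve.generate (Presieve.singleton f)) =
      Sieve.generate (Presieve.singleton (Over.homMk f rfl : Over.mk (f ≫ T.hom) ⟶ T)) := by
  ext W g
  constructor
  · rintro ⟨_, k, _, ⟨⟩, hk⟩
    refine ⟨_, Over.homMk k ?_, _, ⟨⟩, ?_⟩
    · change k ≫ f ≫ T.hom = W.hom
      rw [← Category.assoc, hk, Over.w]
    · ext1
      exact hk
  · rintro ⟨_, k, _, ⟨⟩, rfl⟩
    exact ⟨_, k.left, _, ⟨⟩, rfl⟩

theorem generate_pullback {V U W : Scheme.{u}} (f : V ⟶ U) (g : W ⟶ U) :
    (Sieve.generate (Presieve.singleton f)).pullback g = Sieve.generate (Presieve.singleton (pullback.snd f g)) := by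
  refine le_antisymm ?_ (CovB.generate_pullback_le f g)
  rintro T a ⟨_, k, _, ⟨⟩, hk⟩
  exact ⟨_, pullback.lift k a hk, _, ⟨⟩, pullback.lift_snd _ _ _⟩

/-- Morphisms with a property stable under base change are covering for the finest topology of a Zariski sheaf
satisfying the sheaf condition for them over affine schemes. -/
theorem generate_mem_shTop (hF : Presieve.IsSheaf (Scheme.zariskiTopology.{u}.over S) F)
    (P : MorphismProperty Scheme.{u}) [P.IsStableUnderBaseChange]
    (h : ∀ (X Y : Over S) (f : X ⟶ Y), IsAffine Y.left → P f.left →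
      Presieve.IsSheafFor F (Presieve.singleton f))
    {V U : Scheme.{u}} (f : V ⟶ U) (hf : P f) :
    Sieve.generate (Presieve.singleton f) ∈ shTop F U := by
  intro Y g
  refine isSheafFor_of_affine hF _ fun T hT k => ?_
  rw [ov_pullback, ← Sieve.pullback_comp, generate_pullback, ov_generate,
    ← Presieve.isSheafFor_iff_generate]
  exact h _ _ _ hT (P.pullback_snd _ _ hf)

theorem ov_generate' {U V : Over S} (f : V ⟶ U) :
    ov U (Sieve.generate (Presieve.singleton f.left)) = Sieve.generate (Presieve.singleton f) := by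
  ext W g
  constructor
  · rintro ⟨_, k, _, ⟨⟩, hk⟩
    refine ⟨_, Over.homMk k ?_, _, ⟨⟩, ?_⟩
    · rw [← Over.w f, ← Category.assoc, hk, Over.w]
    · ext1
      exact hk
  · rintro ⟨_, k, _, ⟨⟩, rfl⟩
    exact ⟨_, k.left, _, ⟨⟩, rfl⟩

theorem isSheafFor_of_mem_shTop {U V : Over S} (f : V ⟶ U)
    (h : Sieve.generate (Presieve.singleton f.left) ∈ shTop F U.left) :
    Presieve.IsSheafFor F (Presieve.singleton f) := by
  have h1 := h U (𝟙 _)
  rwa [Sieve.pullback_id, ov_generate', ← Presieve.isSheafFor_iff_generate] at h1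

theorem ker_pullback_snd {Z X T : Scheme.{u}} (i : Z ⟶ X) (g : T ⟶ X) [IsClosedImmersion i] :
    (pullback.snd i g).ker = i.ker.comap g :=
  CovA.ker_of_isPullback (IsPullback.of_hasPullback i g).flip

/-- The class of closed immersions whose ideal is generated by two global sections. -/
def TwoGen {Z X : Scheme.{u}} (i : Z ⟶ X) : Prop :=
  ∃ f₁ f₂ : Γ(X, ⊤), i.ker = Scheme.IdealSheafData.ofIdealTop (Ideal.span {f₁, f₂})

theorem TwoGen.pullback_snd {Z X T : Scheme.{u}} (i : Z ⟶ X) (g : T ⟶ X) (_ : IsClosedImmersion i)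
    (_ : IsAffine X) (_ : IsAffine T) (h : TwoGen i) : TwoGen (pullback.snd i g) := by
  obtain ⟨f₁, f₂, h⟩ := h
  refine ⟨g.appTop.hom f₁, g.appTop.hom f₂, ?_⟩
  rw [ker_pullback_snd, h, Groth.Agent.CurvesC.BlowUpCharts.comap_ofIdealTop, Ideal.map_span, Set.image_pair]

/-- Proper surjective flat morphisms of finite presentation. -/
abbrev FP : MorphismProperty Scheme.{u} :=
  (@Surjective ⊓ @Flat ⊓ @IsProper ⊓ @LocallyOfFinitePresentation : MorphismProperty Scheme.{u})

/-- **The criterion** (sufficiency): a Zariski sheaf with the sheaf condition for flat proper surjective morphisms of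
finite presentation to affine schemes and for almost blow up squares over affine schemes with two-generated centre
satisfies the sheaf condition for proper surjective morphisms of finite presentation to affine schemes. -/
theorem isSheafFor_of_twoGen (hF : Presieve.IsSheaf (Scheme.zariskiTopology.{u}.over S) F)
    (hfl : ∀ (X Y : Over S) (f : X ⟶ Y), IsAffine Y.left → Surjective f.left → Flat f.left → IsProper f.left →
      LocallyOfFinitePresentation f.left → Presieve.IsSheafFor F (Presieve.singleton f))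
    (hsq : ∀ (E Z X' X : Over S) (e : E ⟶ X') (π : E ⟶ Z) (b : X' ⟶ X) (i : Z ⟶ X), IsAffine X.left →
      IsAlmostBlowUpSquare e.left π.left b.left i.left →
      (∃ f₁ f₂ : Γ(X.left, ⊤), i.left.ker = Scheme.IdealSheafData.ofIdealTop (Ideal.span {f₁, f₂})) →
      ∀ (t : F.obj (op Z)) (s' : F.obj (op X')), F.map π.op t = F.map e.op s' →
        ∃! s : F.obj (op X), F.map i.op s = t ∧ F.map b.op s = s')
    {U V : Over S} (f : V ⟶ U) (hU : IsAffine U.left) (h1 : IsProper f.left) (h2 : Surjective f.left)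
    (h3 : LocallyOfFinitePresentation f.left) : Presieve.IsSheafFor F (Presieve.singleton f) := by
  have hZ : Scheme.zariskiTopology ≤ shTop F := le_shTop_of_isSheaf _ _ hF
  have hAB2 : ∀ {E Z X' X : Scheme.{u}} (e : E ⟶ X') (π : E ⟶ Z) (b : X' ⟶ X) (i : Z ⟶ X), IsAffine X →
      IsAlmostBlowUpSquare e π b i →
      (∃ f₁ f₂ : Γ(X, ⊤), i.ker = Scheme.IdealSheafData.ofIdealTop (Ideal.span {f₁, f₂})) →
      two i b ∈ shTop F X := fun e π b i hX hs hi =>
    two_mem_shTop hF TwoGen TwoGen.pullback_snd hsq e π b i hX hs hi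
  refine isSheafFor_of_mem_shTop f ?_
  refine CovC.generate_mem hZ (fun hs => CovA.two_mem hZ hAB2 hs) ?_ f.left
  intro V' U' f' hU' g1 g2 g3 g4
  exact generate_mem_shTop hF FP (fun X Y f hY hf => hfl X Y f hY hf.1.1.1 hf.1.1.2 hf.1.2 hf.2) f'
    ⟨⟨⟨g1, g2⟩, g3⟩, g4⟩

end K347.CovD
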