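import Groth.Agent.HTop.K347.CovC

/-!
# Dévissage with almost blow up squares over Noetherian schemes only
-/

set_option autoImplicit false
universe w u

open CategoryTheory CategoryTheory.Limits AlgebraicGeometry HTop TopologicalSpace

namespace K347.CovN

open K347.Two K347.CovB K347.CovC

variable {L : GrothendieckTopology Scheme.{u}}

/-- Membership can be tested after restriction to a surjective closed immersion of finite presentation. -/
theorem mem_of_pullback_mem' (hZ : Scheme.zariskiTopology ≤ L)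
    (hAB : ∀ {E Z X' X : Scheme.{u}} {e : E ⟶ X'} {π : E ⟶ Z} {b : X' ⟶ X} {i : Z ⟶ X},
      IsLocallyNoetherian X → IsAlmostBlowUpSquare e π b i → two i b ∈ L X)
    {Z X : Scheme.{u}} (hX : IsLocallyNoetherian X) (i : Z ⟶ X) [IsClosedImmersion i] [LocallyOfFinitePresentation i] [Surjective i]
    {R : Sieve X} (h : R.pullback i ∈ L Z) : R ∈ L X :=
  mem_of_two_mem (hAB hX (empty_square i)) h (mem_of_isEmpty hZ _)

/-- **Dévissage** over a Noetherian scheme: proper surjective morphisms are covering as soon as the flat ones of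
finite presentation and the almost blow up squares are. -/
theorem generate_mem_of_isNoetherian' (hZ : Scheme.zariskiTopology ≤ L)
    (hAB : ∀ {E Z X' X : Scheme.{u}} {e : E ⟶ X'} {π : E ⟶ Z} {b : X' ⟶ X} {i : Z ⟶ X},
      IsLocallyNoetherian X → IsAlmostBlowUpSquare e π b i → two i b ∈ L X)
    (hF : ∀ {V U : Scheme.{u}} (f : V ⟶ U), IsAffine U → Surjective f → Flat f → IsProper f →
      LocallyOfFinitePresentation f → Sieve.generate (Presieve.singleton f) ∈ L U)
    {V U : Scheme.{u}} [IsNoetherian U] (f : V ⟶ U) [IsProper f] [Surjective f] :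
    Sieve.generate (Presieve.singleton f) ∈ L U := by
  have key : ∀ (Z : Closeds U) (T : Scheme.{u}) (j : T ⟶ U) [IsClosedImmersion j], Set.range j = (Z : Set U) →
      (Sieve.generate (Presieve.singleton f)).pullback j ∈ L T := by
    intro Z
    induction Z using WellFoundedLT.induction with
    | _ Z ih =>
    intro T j _ hj
    have hT1 : IsLocallyNoetherian T := LocallyOfFiniteType.isLocallyNoetherian j
    let Y := T.nilradical.subscheme
    let k : Y ⟶ T := T.nilradical.subschemeι
    have hY : IsReduced Y := Groth.Agent.Flat2C.GenericReduced.isReduced_subscheme_nilradical T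
    have hks : Surjective k := ⟨by
      rw [← Set.range_eq_univ, Scheme.IdealSheafData.range_subschemeι, Scheme.support_nilradical]
      rfl⟩
    have hk : LocallyOfFinitePresentation k := LocallyOfFinitePresentation.iff_locallyOfFiniteType.2 inferInstance
    refine mem_of_pullback_mem' hZ hAB hT1 k ?_
    rw [← Sieve.pullback_comp]
    have hY1 : IsLocallyNoetherian Y := LocallyOfFiniteType.isLocallyNoetherian k
    have hY2 : CompactSpace Y := (quasiCompact_iff_compactSpace (k ≫ j)).mp inferInstance
    have hY3 : IsNoetherian Y := ⟨⟩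
    rcases isEmpty_or_nonempty Y with hemp | hne
    · exact mem_of_isEmpty hZ _
    let fY : pullback f (k ≫ j) ⟶ Y := pullback.snd f (k ≫ j)
    have hlfp : LocallyOfFinitePresentation fY :=
      LocallyOfFinitePresentation.iff_locallyOfFiniteType.2 inferInstance
    obtain ⟨O, 𝓘, Y', b, hO, -, hb, hadm, hbs, hst⟩ := Groth.Agent.S14793.result (finite_generic.isCompact)
      fY (K835.Basic.of_universallyClosed fY)
    have h2 : two 𝓘.subschemeι b ∈ L Y :=
      hAB hY1 (noeth_square (𝓘.ker_subschemeι.symm ▸ hb) (IsPullback.of_hasPullback b 𝓘.subschemeι))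
    refine mem_of_two_mem h2 ?_ ?_
    · rw [← Sieve.pullback_comp]
      refine ih ⟨Set.range (𝓘.subschemeι ≫ k ≫ j), (𝓘.subschemeι ≫ k ≫ j).isClosedEmbedding.isClosed_range⟩
        ?_ _ (𝓘.subschemeι ≫ k ≫ j) rfl
      refine lt_of_le_of_ne ?_ ?_
      · rintro _ ⟨z, rfl⟩
        change _ ∈ (Z : Set U)
        rw [← hj, Scheme.Hom.comp_apply, Scheme.Hom.comp_apply]
        exact ⟨_, rfl⟩
      · intro heq
        obtain ⟨y, hy⟩ := hO.nonempty
        have h3 : j (k y) ∈ (Z : Set U) := hj ▸ ⟨k y, rfl⟩
        rw [← heq] at h3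
        obtain ⟨z, hz⟩ := h3
        have h4 : 𝓘.subschemeι z = y := by
          apply (k ≫ j).isClosedEmbedding.injective
          rw [Scheme.Hom.comp_apply, Scheme.Hom.comp_apply, ← hz, Scheme.Hom.comp_apply, Scheme.Hom.comp_apply]
        have h5 : y ∈ (𝓘.support : Set Y) := by
          rw [← Scheme.IdealSheafData.range_subschemeι]
          exact ⟨z, h4⟩
        exact Set.disjoint_left.1 hadm.2 h5 hy
    · let p₁ : pullback fY b ⟶ pullback f (k ≫ j) := pullback.fst fY b
      let p₂ : pullback fY b ⟶ Y' := pullback.snd fY b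
      have hE : (𝓘.comap fY).comap p₁ = (𝓘.comap b).comap p₂ := by
        rw [← Scheme.IdealSheafData.comap_comp, ← Scheme.IdealSheafData.comap_comp]
        congr 1
        exact pullback.condition
      have hft : BlowUp.IsFiniteTypeIdeal ((𝓘.comap fY).comap p₁) := by
        rw [hE]
        exact ((Groth.Agent.Flat2C.StrictTr.isLocPrincipal_of_isEff hb.1).comap p₂).isFiniteTypeIdeal
      obtain ⟨g1, g2, g3, -, -⟩ := hst _ p₁ p₂ (IsPullback.of_hasPullback fY b)
        (Groth.Agent.Flat2C.StrictTr.killedIdeal ((𝓘.comap fY).comap p₁))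
        (Groth.Agent.Flat2C.StrictTr.isKilledIdeal_killedIdeal hft)
      set 𝒥 := Groth.Agent.Flat2C.StrictTr.killedIdeal ((𝓘.comap fY).comap p₁)
      have h6 : Sieve.generate (Presieve.singleton (𝒥.subschemeι ≫ p₂)) ∈ L Y' := by
        refine generate_mem_of_affine hZ _ fun W hW => ?_
        exact hF _ hW inferInstance inferInstance inferInstance inferInstance
      refine L.superset_covering ?_ h6
      rw [Sieve.generate_le_iff]
      rintro _ _ ⟨⟩
      refine ⟨_, 𝒥.subschemeι ≫ p₁ ≫ pullback.fst f (k ≫ j), _, ⟨⟩, ?_⟩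
      have e : p₁ ≫ fY ≫ (k ≫ j) = p₂ ≫ b ≫ (k ≫ j) :=
        (Category.assoc _ _ _).symm.trans ((congrArg (fun z => z ≫ k ≫ j)
          (pullback.condition (f := fY) (g := b))).trans (Category.assoc _ _ _))
      have e' : pullback.fst f (k ≫ j) ≫ f = fY ≫ (k ≫ j) := pullback.condition
      change (𝒥.subschemeι ≫ p₁ ≫ pullback.fst f (k ≫ j)) ≫ f = (𝒥.subschemeι ≫ p₂) ≫ b ≫ (k ≫ j)
      rw [Category.assoc, Category.assoc, e', Category.assoc, e]
  have h := key ⊤ U (𝟙 U) (by simp)
  rwa [Sieve.pullback_id] at h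

/-- **Dévissage**: proper surjective morphisms of finite presentation onto affine schemes are covering as soon as the
flat ones and the almost blow up squares are. -/
theorem generate_mem' (hZ : Scheme.zariskiTopology ≤ L)
    (hAB : ∀ {E Z X' X : Scheme.{u}} {e : E ⟶ X'} {π : E ⟶ Z} {b : X' ⟶ X} {i : Z ⟶ X},
      IsLocallyNoetherian X → IsAlmostBlowUpSquare e π b i → two i b ∈ L X)
    (hF : ∀ {V U : Scheme.{u}} (f : V ⟶ U), IsAffine U → Surjective f → Flat f → IsProper f →
      LocallyOfFinitePresentation f → Sieve.generate (Presieve.singleton f) ∈ L U)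
    {V U : Scheme.{u}} [IsAffine U] (f : V ⟶ U) [IsProper f] [Surjective f] [LocallyOfFinitePresentation f] :
    Sieve.generate (Presieve.singleton f) ∈ L U := by
  obtain ⟨S, hS, X₀, f₀, p, h1, h2, h3, h4⟩ := exists_model Γ(U, ⊤) (f ≫ U.isoSpec.hom)
  have : IsNoetherianRing S := isNoetherianRing_of_fg hS
  have h5 := generate_mem_of_isNoetherian' hZ hAB hF f₀
  have h6 := L.pullback_stable (U.isoSpec.hom ≫ Spec.map (CommRingCat.ofHom S.val.toRingHom)) h5
  refine L.superset_covering ?_ h6
  rintro T g ⟨_, k, _, ⟨⟩, hk⟩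
  refine ⟨_, h1.lift k (g ≫ U.isoSpec.hom) (by rw [Category.assoc]; exact hk), _, ⟨⟩, ?_⟩
  rw [← cancel_mono U.isoSpec.hom, Category.assoc]
  exact h1.lift_snd _ _ _

end K347.CovN
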