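import Groth.Agent.HTop.K347.PtFunBasic
import Mathlib.RingTheory.Localization.FractionRing

/-!
# Values of pointwise functions at field-valued points
-/

set_option autoImplicit false

universe u

open CategoryTheory AlgebraicGeometry W4c1hilbchowinc

namespace K347.PtFunEv

variable {X Y : Scheme.{u}} {K L : Type u} [Field K] [Field L]

/-- The value of a pointwise function at a `K`-valued point. -/
noncomputable def ev (f : PtFun X) (t : Spec (CommRingCat.of K) ⟶ X) : K :=
  X.descResidueField (K := K) (Scheme.stalkClosedPointTo t) (f (t (IsLocalRing.closedPoint K)))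

theorem exists_factor (t : Spec (CommRingCat.of K) ⟶ X) :
    ∃ (x : X) (ρ : X.residueField x ⟶ CommRingCat.of K), Spec.map ρ ≫ X.fromSpecResidueField x = t ∧
      t (IsLocalRing.closedPoint K) = x :=
  ⟨_, _, Scheme.descResidueField_stalkClosedPointTo_fromSpecResidueField K X t, rfl⟩

theorem apply_closedPoint (x : X) (ρ : X.residueField x ⟶ CommRingCat.of K) :
    (Spec.map ρ ≫ X.fromSpecResidueField x) (IsLocalRing.closedPoint K) = x := by
  rw [Scheme.Hom.comp_apply, Scheme.fromSpecResidueField_apply]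

theorem ev_eq (f : PtFun X) (x : X) (ρ : X.residueField x ⟶ CommRingCat.of K) :
    ev f (Spec.map ρ ≫ X.fromSpecResidueField x) = ρ (f x) := by
  have key : ∀ (y : X) (σ : X.residueField y ⟶ CommRingCat.of K), y = x →
      Spec.map σ ≫ X.fromSpecResidueField y = Spec.map ρ ≫ X.fromSpecResidueField x →
        σ (f y) = ρ (f x) := by
    rintro y σ rfl h
    rw [cancel_mono] at h
    rw [Spec.map_injective h]
  exact key _ _ (apply_closedPoint x ρ)
    (Scheme.descResidueField_stalkClosedPointTo_fromSpecResidueField K X _)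

theorem ev_map (f : PtFun X) (t : Spec (CommRingCat.of K) ⟶ X) (ψ : CommRingCat.of K ⟶ CommRingCat.of L) :
    ev f (Spec.map ψ ≫ t) = ψ (ev f t) := by
  obtain ⟨x, ρ, rfl, -⟩ := exists_factor t
  rw [ev_eq, ← Category.assoc, ← Spec.map_comp, ev_eq]
  rfl

theorem ev_pullback (f : PtFun X) (g : Y ⟶ X) (t : Spec (CommRingCat.of K) ⟶ Y) :
    ev (f.pullback g) t = ev f (t ≫ g) := by
  obtain ⟨y, ρ, rfl, -⟩ := exists_factor t
  rw [ev_eq, Category.assoc, ← Scheme.Hom.SpecMap_residueFieldMap_fromSpecResidueField, ← Category.assoc,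
    ← Spec.map_comp, ev_eq]
  rfl

/-- Pointwise functions with equal values at a field-valued point agree at its image. -/
theorem eq_of_ev_eq {f f' : PtFun X} (t : Spec (CommRingCat.of K) ⟶ X) (x : X)
    (hx : t (IsLocalRing.closedPoint K) = x) (h : ev f t = ev f' t) : f x = f' x := by
  obtain ⟨y, ρ, rfl, -⟩ := exists_factor t
  rw [apply_closedPoint] at hx
  subst hx
  rw [ev_eq, ev_eq] at h
  exact ρ.hom.injective h

theorem ev_fromSpecResidueField (f : PtFun X) (x : X) :
    ev (K := X.residueField x) f (X.fromSpecResidueField x) = f x := by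
  have h := ev_eq (K := X.residueField x) f x (𝟙 _)
  rw [Spec.map_id] at h
  refine Eq.trans ?_ h
  congr 1

theorem fromSpecResidueField_appTop (x : X) :
    (X.fromSpecResidueField x).appTop =
      X.Γevaluation x ≫ (Scheme.ΓSpecIso (X.residueField x)).inv := by
  have h1 : (X.fromSpecStalk x).appTop =
      X.presheaf.germ ⊤ x trivial ≫ (Scheme.ΓSpecIso (X.presheaf.stalk x)).inv := by
    rw [Scheme.fromSpecStalk_appTop]
    congr 1
  rw [Scheme.fromSpecResidueField, Scheme.Hom.comp_appTop, h1, Category.assoc,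
    ← Scheme.ΓSpecIso_inv_naturality, ← Category.assoc]
  rfl

theorem ev_ofSection (s : Γ(X, ⊤)) (t : Spec (CommRingCat.of K) ⟶ X) :
    ev (PtFun.ofSection X s) t = (Scheme.ΓSpecIso (CommRingCat.of K)).hom (t.appTop s) := by
  obtain ⟨x, ρ, rfl, -⟩ := exists_factor t
  rw [ev_eq, Scheme.Hom.comp_appTop, fromSpecResidueField_appTop, Category.assoc,
    ← Scheme.ΓSpecIso_inv_naturality, ← Category.assoc]
  have h : (Scheme.ΓSpecIso (CommRingCat.of K)).hom (((X.Γevaluation x ≫ ρ) ≫
      (Scheme.ΓSpecIso (CommRingCat.of K)).inv) s) = (X.Γevaluation x ≫ ρ) s := by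
    have h1 := congrArg (fun g : CommRingCat.of K ⟶ CommRingCat.of K => g ((X.Γevaluation x ≫ ρ) s))
      (Scheme.ΓSpecIso (CommRingCat.of K)).inv_hom_id
    exact h1
  rw [h]
  rfl

/-- The section of `Spec A` given by `a : A`. -/
noncomputable def sec (A : Type u) [CommRing A] (a : A) : Γ(Spec (CommRingCat.of A), ⊤) :=
  (Scheme.ΓSpecIso (CommRingCat.of A)).inv a

theorem sec_surjective (A : Type u) [CommRing A] (s : Γ(Spec (CommRingCat.of A), ⊤)) :
    ∃ a : A, sec A a = s :=
  ⟨(Scheme.ΓSpecIso (CommRingCat.of A)).hom s, by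
    have h1 := congrArg (fun g : Γ(Spec (CommRingCat.of A), ⊤) ⟶ Γ(Spec (CommRingCat.of A), ⊤) => g s)
      (Scheme.ΓSpecIso (CommRingCat.of A)).hom_inv_id
    exact h1⟩

theorem ev_sec (A : Type u) [CommRing A] (a : A) (φ : A →+* K) :
    ev (PtFun.ofSection _ (sec A a)) (Spec.map (CommRingCat.ofHom φ)) = φ a := by
  rw [ev_ofSection]
  have h1 := congrArg (fun g : CommRingCat.of A ⟶ Γ(Spec (CommRingCat.of K), ⊤) => g a)
      (Scheme.ΓSpecIso_inv_naturality (CommRingCat.ofHom φ))
  have h2 : (Spec.map (CommRingCat.ofHom φ)).appTop (sec A a) =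
      (Scheme.ΓSpecIso (CommRingCat.of K)).inv (φ a) := h1.symm
  rw [h2]
  have h3 := congrArg (fun g : CommRingCat.of K ⟶ CommRingCat.of K => g (φ a))
      (Scheme.ΓSpecIso (CommRingCat.of K)).inv_hom_id
  exact h3

theorem map_closedPoint_asIdeal (A : Type u) [CommRing A] (φ : A →+* K) :
    (Spec.map (CommRingCat.ofHom φ) (IsLocalRing.closedPoint K)).asIdeal = RingHom.ker φ := by
  change Ideal.comap φ (IsLocalRing.maximalIdeal K) = _
  rw [IsLocalRing.maximalIdeal_eq_bot]
  rfl

/-- The criterion for a pointwise function on the spectrum of a discrete valuation ring to be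
algebraic. -/
theorem isAlgebraic_iff (R : Type u) [CommRing R] [IsDomain R] [IsDiscreteValuationRing R]
    (F : Type u) [Field F] [Algebra R F] [IsFractionRing R F] (h : PtFun (Spec (CommRingCat.of R))) :
    h.IsAlgebraic ↔ ∃ r : R, ev h (Spec.map (CommRingCat.ofHom (algebraMap R F))) = algebraMap R F r ∧
      ev h (Spec.map (CommRingCat.ofHom (IsLocalRing.residue R))) = IsLocalRing.residue R r := by
  constructor
  · rintro ⟨s, rfl⟩
    obtain ⟨r, rfl⟩ := sec_surjective R s
    exact ⟨r, ev_sec R r _, ev_sec R r _⟩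
  · rintro ⟨r, h1, h2⟩
    refine ⟨sec R r, ?_⟩
    funext x
    by_cases hx : x = IsLocalRing.closedPoint R
    · refine eq_of_ev_eq (Spec.map (CommRingCat.ofHom (IsLocalRing.residue R))) x ?_ ?_
      · apply PrimeSpectrum.ext
        rw [map_closedPoint_asIdeal, hx, IsLocalRing.ker_residue]
        rfl
      · rw [ev_sec, h2]
    · refine eq_of_ev_eq (Spec.map (CommRingCat.ofHom (algebraMap R F))) x ?_ ?_
      · apply PrimeSpectrum.ext
        rw [map_closedPoint_asIdeal, (RingHom.injective_iff_ker_eq_bot _).1 (IsFractionRing.injective R F)]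
        by_contra hne
        apply hx
        apply PrimeSpectrum.ext
        exact IsLocalRing.eq_maximalIdeal (IsPrime.to_maximal_ideal (Ne.symm hne))
      · rw [ev_sec, h1]

end K347.PtFunEv
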