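import Groth.Agent.HTop.K347.SubInt

/-!
# Elements with constant values over a seminormal ring
-/

set_option autoImplicit false

universe u v

namespace K347.SubIntAdjoin

variable {A : Type u} {C : Type v} [CommRing A] [CommRing C] [Algebra A C]

/-- Let `A` be a seminormal ring and `A → C` an injective ring map, `C` reduced and generated by one
integral element `b`. If the values of `b` at the points over any `p ∈ Spec A` are given by one element
`a / s` of `κ(p)`, then `A → C` is surjective. -/
theorem surjective_of_adjoin (hA : ∀ x y : A, x ^ 3 = y ^ 2 → ∃ a : A, x = a ^ 2 ∧ y = a ^ 3)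
    [IsReduced C] (hinj : Function.Injective (algebraMap A C)) (b : C) (hb : IsIntegral A b)
    (htop : Algebra.adjoin A {b} = ⊤)
    (h : ∀ p : Ideal A, p.IsPrime → ∃ a s : A, s ∉ p ∧ ∀ q : Ideal C, q.IsPrime →
      q.comap (algebraMap A C) = p → algebraMap A C s * b - algebraMap A C a ∈ q) :
    Function.Surjective (algebraMap A C) := by
  have hfin : Module.Finite A C := by
    have h1 := Algebra.finite_adjoin_simple_of_isIntegral hb
    rw [htop] at h1
    exact Module.Finite.equiv (Subalgebra.topEquiv (R := A) (A := C)).toLinearEquiv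
  -- the two-prime version of the claim
  have key : ∀ p : Ideal A, p.IsPrime → ∀ c : C, ∃ a s : A, s ∉ p ∧ ∀ q : Ideal C, q.IsPrime →
      q.comap (algebraMap A C) = p → algebraMap A C s * c - algebraMap A C a ∈ q := by
    intro p hp c
    obtain ⟨a₀, s₀, hs₀, h₀⟩ := h p hp
    have hc : c ∈ Algebra.adjoin A {b} := by
      rw [htop]
      trivial
    induction hc using Algebra.adjoin_induction with
    | mem x hx =>
      rw [Set.mem_singleton_iff] at hx
      rw [hx]
      exact ⟨a₀, s₀, hs₀, h₀⟩
    | algebraMap r =>
      refine ⟨r, 1, fun h => hp.ne_top ((Ideal.eq_top_iff_one _).2 h), fun q _ _ => ?_⟩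
      rw [map_one, one_mul, sub_self]
      exact zero_mem _
    | add x y _ _ hx hy =>
      obtain ⟨a, s, hs, hx⟩ := hx
      obtain ⟨a', s', hs', hy⟩ := hy
      refine ⟨s' * a + s * a', s * s', fun h => (hp.mem_or_mem h).elim hs hs', fun q hq hqp => ?_⟩
      have h1 : algebraMap A C (s * s') * (x + y) - algebraMap A C (s' * a + s * a') =
          algebraMap A C s' * (algebraMap A C s * x - algebraMap A C a) +
          algebraMap A C s * (algebraMap A C s' * y - algebraMap A C a') := by
        rw [map_mul, map_add, map_mul, map_mul]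
        ring
      rw [h1]
      exact add_mem (q.mul_mem_left _ (hx q hq hqp)) (q.mul_mem_left _ (hy q hq hqp))
    | mul x y _ _ hx hy =>
      obtain ⟨a, s, hs, hx⟩ := hx
      obtain ⟨a', s', hs', hy⟩ := hy
      refine ⟨a * a', s * s', fun h => (hp.mem_or_mem h).elim hs hs', fun q hq hqp => ?_⟩
      have h1 : algebraMap A C (s * s') * (x * y) - algebraMap A C (a * a') =
          algebraMap A C s' * y * (algebraMap A C s * x - algebraMap A C a) +
          algebraMap A C a * (algebraMap A C s' * y - algebraMap A C a') := by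
        rw [map_mul, map_mul]
        ring
      rw [h1]
      exact add_mem (q.mul_mem_left _ (hx q hq hqp)) (q.mul_mem_left _ (hy q hq hqp))
  refine SubInt.surjective_of_finite hA hinj ?_ ?_
  · have hle : ∀ q q' : Ideal C, q.IsPrime → q'.IsPrime →
        q.comap (algebraMap A C) = q'.comap (algebraMap A C) → q ≤ q' := by
      intro q q' hq hq' hqq c hc
      obtain ⟨a, s, hs, hk⟩ := key (q.comap (algebraMap A C)) (Ideal.IsPrime.comap _) c
      have h1 := hk q hq rfl
      have h2 := hk q' hq' hqq.symm
      have h3 : a ∈ q.comap (algebraMap A C) := by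
        have : algebraMap A C a = algebraMap A C s * c - (algebraMap A C s * c - algebraMap A C a) := by
          ring
        rw [Ideal.mem_comap, this]
        exact sub_mem (q.mul_mem_left _ hc) h1
      rw [hqq] at h3 hs
      have h4 : algebraMap A C s * c ∈ q' := by
        have : algebraMap A C s * c = (algebraMap A C s * c - algebraMap A C a) + algebraMap A C a := by
          ring
        rw [this]
        exact add_mem h2 h3
      exact (hq'.mem_or_mem h4).resolve_left hs
    intro q q' hq hq' hqq
    exact le_antisymm (hle q q' hq hq' hqq) (hle q' q hq' hq hqq.symm)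
  · intro q hq c
    obtain ⟨a, s, hs, hk⟩ := key (q.comap (algebraMap A C)) (Ideal.IsPrime.comap _) c
    exact ⟨a, s, hs, hk q hq rfl⟩

/-- Let `A` be a seminormal ring, `A → E` an injective integral ring map with `E` reduced and `b : E`. If
the values of `b` at the points over any `p ∈ Spec A` are given by one element `a / s` of `κ(p)`, then `b`
comes from `A`. -/
theorem mem_range_of_isIntegral {E : Type v} [CommRing E] [Algebra A E] [Algebra.IsIntegral A E]
    (hA : ∀ x y : A, x ^ 3 = y ^ 2 → ∃ a : A, x = a ^ 2 ∧ y = a ^ 3)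
    [IsReduced E] (hinj : Function.Injective (algebraMap A E)) (b : E)
    (h : ∀ p : Ideal A, p.IsPrime → ∃ a s : A, s ∉ p ∧ ∀ q : Ideal E, q.IsPrime →
      q.comap (algebraMap A E) = p → algebraMap A E s * b - algebraMap A E a ∈ q) :
    ∃ a : A, algebraMap A E a = b := by
  let C : Subalgebra A E := Algebra.adjoin A {b}
  let b' : C := ⟨b, Algebra.self_mem_adjoin_singleton A b⟩
  have hred : IsReduced C := isReduced_of_injective C.val Subtype.val_injective
  have hinjC : Function.Injective (algebraMap A C) := by
    intro x y hxy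
    exact hinj (congrArg (fun z : C => (z : E)) hxy)
  have hb' : IsIntegral A b' := by
    have h1 := Algebra.IsIntegral.isIntegral (R := A) b
    exact (isIntegral_algHom_iff C.val Subtype.val_injective).1 h1
  have htop : Algebra.adjoin A {b'} = ⊤ := by
    rw [eq_top_iff]
    rintro ⟨c, hc⟩ -
    have h1 : (Algebra.adjoin A {b'}).map C.val = Algebra.adjoin A {b} := by
      rw [AlgHom.map_adjoin, Set.image_singleton]
      rfl
    have h2 : c ∈ (Algebra.adjoin A {b'}).map C.val := by
      rw [h1]
      exact hc
    obtain ⟨d, hd, hdc⟩ := h2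
    have h3 : d = ⟨c, hc⟩ := Subtype.ext hdc
    rw [← h3]
    exact hd
  have hlift : ∀ q : Ideal C, q.IsPrime → ∃ Q : Ideal E, Q.IsPrime ∧ Q.comap (algebraMap C E) = q := by
    intro q hq
    have : Algebra.IsIntegral C E := Algebra.IsIntegral.tower_top (R := A)
    obtain ⟨Q, -, hQ, hQq⟩ := Ideal.exists_ideal_over_prime_of_isIntegral q (⊥ : Ideal E) (by
      intro a ha
      rw [Ideal.mem_comap, Ideal.mem_bot] at ha
      have h0 : a = 0 := Subtype.ext ha
      rw [h0]
      exact zero_mem _)
    exact ⟨Q, hQ, hQq⟩
  obtain ⟨a, ha⟩ := surjective_of_adjoin (C := C) hA hinjC b' hb' htop (by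
    intro p hp
    obtain ⟨a, s, hs, hk⟩ := h p hp
    refine ⟨a, s, hs, fun q hq hqp => ?_⟩
    obtain ⟨Q, hQ, rfl⟩ := hlift q hq
    refine hk Q hQ ?_
    rw [Ideal.comap_comap, ← IsScalarTower.algebraMap_eq] at hqp
    exact hqp) b'
  exact ⟨a, congrArg (fun z : C => (z : E)) ha⟩

end K347.SubIntAdjoin
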