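import Groth.Agent.HTop.K347.SubIntScheme
import Groth.Agent.HTop.K347.SubIntAdjoin
import Groth.Agent.HTop.K347.PtFunEv
import Groth.Agent.Sga7.H153.DiffAlg
import Mathlib.AlgebraicGeometry.Morphisms.Proper
import Mathlib.RingTheory.Flat.Basic

/-!
# Descent of sections along universally closed surjective morphisms to a seminormal affine scheme
-/

set_option autoImplicit false

universe u

open CategoryTheory CategoryTheory.Limits AlgebraicGeometry

open scoped TensorProduct

namespace K347.DescSection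

variable {V W : Scheme.{u}}

/-- The value of a global section at a ring-valued point. -/
noncomputable def val {R : Type u} [CommRing R] (y : Spec (CommRingCat.of R) ⟶ W) (s : Γ(W, ⊤)) : R :=
  (Scheme.ΓSpecIso (CommRingCat.of R)).hom (y.appTop s)

theorem val_map {R S : Type u} [CommRing R] [CommRing S] (φ : R →+* S) (y : Spec (CommRingCat.of R) ⟶ W)
    (s : Γ(W, ⊤)) : val (Spec.map (CommRingCat.ofHom φ) ≫ y) s = φ (val y s) := by
  have h := congrArg (fun g : Γ(Spec (CommRingCat.of R), ⊤) ⟶ CommRingCat.of S => g (y.appTop s))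
    (Scheme.ΓSpecIso_naturality (CommRingCat.ofHom φ))
  unfold val
  rw [Scheme.Hom.comp_appTop]
  exact h

/-- The canonical residue-field-valued point. -/
noncomputable def rpt (W : Scheme.{u}) (y : W) : Spec (CommRingCat.of (W.residueField y)) ⟶ W :=
  W.fromSpecResidueField y

theorem val_rpt (y : W) (s : Γ(W, ⊤)) : val (rpt W y) s = W.Γevaluation y s := by
  have h1 := PtFunEv.fromSpecResidueField_appTop y
  have h2 : (W.fromSpecResidueField y).appTop s =
      (Scheme.ΓSpecIso (W.residueField y)).inv (W.Γevaluation y s) := by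
    rw [h1]
    rfl
  have h3 := congrArg (fun g : W.residueField y ⟶ W.residueField y => g (W.Γevaluation y s))
    (Scheme.ΓSpecIso (W.residueField y)).inv_hom_id
  exact (congrArg (Scheme.ΓSpecIso (W.residueField y)).hom h2).trans h3

/-- The comparison of the values of a section with equal pullbacks at two points over the same point. -/
theorem tmul_eq (g : W ⟶ V) (s : Γ(W, ⊤)) (hs : (pullback.fst g g).appTop s = (pullback.snd g g).appTop s)
    {k K K' : Type u} [Field k] [Field K] [Field K'] [Algebra k K] [Algebra k K']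
    (x : Spec (CommRingCat.of k) ⟶ V) (y : Spec (CommRingCat.of K) ⟶ W) (y' : Spec (CommRingCat.of K') ⟶ W)
    (h : y ≫ g = Spec.map (CommRingCat.ofHom (algebraMap k K)) ≫ x)
    (h' : y' ≫ g = Spec.map (CommRingCat.ofHom (algebraMap k K')) ≫ x) :
    (val y s) ⊗ₜ[k] (1 : K') = (1 : K) ⊗ₜ[k] (val y' s) := by
  let inl : K →+* K ⊗[k] K' := (Algebra.TensorProduct.includeLeft : K →ₐ[k] K ⊗[k] K').toRingHom
  let inr : K' →+* K ⊗[k] K' := (Algebra.TensorProduct.includeRight : K' →ₐ[k] K ⊗[k] K').toRingHom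
  have hcomp : inl.comp (algebraMap k K) = inr.comp (algebraMap k K') := by
    ext c
    exact Algebra.TensorProduct.tmul_one_eq_one_tmul c
  let m : Spec (CommRingCat.of (K ⊗[k] K')) ⟶ pullback g g :=
    pullback.lift (Spec.map (CommRingCat.ofHom inl) ≫ y) (Spec.map (CommRingCat.ofHom inr) ≫ y') (by
      rw [Category.assoc, Category.assoc, h, h', ← Category.assoc, ← Category.assoc, ← Spec.map_comp,
        ← Spec.map_comp, ← CommRingCat.ofHom_comp, ← CommRingCat.ofHom_comp, hcomp])
  have h1 : val (m ≫ pullback.fst g g) s = val (m ≫ pullback.snd g g) s := by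
    unfold val
    rw [Scheme.Hom.comp_appTop, Scheme.Hom.comp_appTop, CommRingCat.comp_apply, CommRingCat.comp_apply, hs]
  rw [pullback.lift_fst, pullback.lift_snd, val_map, val_map] at h1
  exact h1

/-- Points of `W` over a point `x` of `V`, as residue-field-valued points over `Spec κ(x)`. -/
theorem exists_algebra (g : W ⟶ V) (x : V) (y : W) (hy : g y = x) :
    ∃ φ : V.residueField x →+* W.residueField y,
      rpt W y ≫ g = Spec.map (CommRingCat.ofHom φ) ≫ rpt V x ∧
        ∀ a : Γ(V, ⊤), φ (V.Γevaluation x a) = W.Γevaluation y (g.appTop a) := by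
  subst hy
  refine ⟨(g.residueFieldMap y).hom, ?_, fun a => Scheme.Γevaluation_naturality_apply g y a⟩
  exact (Scheme.Hom.SpecMap_residueFieldMap_fromSpecResidueField g y).symm

theorem mem_toSpecΓ_iff (y : W) (a : Γ(W, ⊤)) :
    a ∈ (W.toSpecΓ y).asIdeal ↔ W.Γevaluation y a = 0 := by
  have h := W.evaluation_eq_zero_iff_notMem_basicOpen y (U := ⊤) trivial a
  refine Iff.trans ?_ h.symm
  rw [← Scheme.toSpecΓ_preimage_basicOpen]
  change _ ↔ ¬ (a ∉ (W.toSpecΓ y).asIdeal)
  rw [not_not]

theorem surjective_toSpecΓ (g : W ⟶ V) [IsAffine V] [UniversallyClosed g] :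
    Function.Surjective W.toSpecΓ := by
  have : CompactSpace W := (quasiCompact_iff_compactSpace g).mp inferInstance
  have : UniversallyClosed (W.toSpecΓ ≫ Spec.map g.appTop) := by
    rwa [← Scheme.toSpecΓ_naturality,
      MorphismProperty.cancel_right_of_respectsIso (P := @UniversallyClosed)]
  have : UniversallyClosed W.toSpecΓ := .of_comp_of_isSeparated _ (Spec.map g.appTop)
  have h1 : IsClosed (Set.range W.toSpecΓ) := W.toSpecΓ.isClosedMap.isClosed_range
  rw [← Set.range_eq_univ, ← h1.closure_eq]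
  exact W.toSpecΓ.denseRange.closure_range

/-- **Descent of sections**: let `V` be affine with seminormal ring of sections, `g : W ⟶ V` universally
closed and surjective with `W` reduced. A global section of `W` whose two pullbacks to `W ×_V W` coincide
comes from `V`. -/
theorem exists_appTop_eq (g : W ⟶ V) [IsAffine V] [UniversallyClosed g] (hg : Function.Surjective g)
    [IsReduced W] (hV : HTop.IsSeminormalRing Γ(V, ⊤)) (s : Γ(W, ⊤))
    (hs : (pullback.fst g g).appTop s = (pullback.snd g g).appTop s) : ∃ t : Γ(V, ⊤), g.appTop t = s := by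
  have hred : _root_.IsReduced Γ(V, ⊤) := SubInt.isReduced_of_isSeminormalRing hV
  have hinj := SubIntScheme.app_injective_of_surjective g hg (isAffineOpen_top V)
  let _ : Algebra Γ(V, ⊤) Γ(W, ⊤) := g.appTop.hom.toAlgebra
  have hint : Algebra.IsIntegral Γ(V, ⊤) Γ(W, ⊤) := ⟨isIntegral_appTop_of_universallyClosed g⟩
  refine SubIntAdjoin.mem_range_of_isIntegral (A := Γ(V, ⊤)) (E := Γ(W, ⊤))
    (fun x y h => (hV x y h).exists) hinj s ?_
  intro p hp
  let x : V := V.isoSpec.inv (⟨p, hp⟩ : PrimeSpectrum Γ(V, ⊤))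
  have hx : V.toSpecΓ x = (⟨p, hp⟩ : PrimeSpectrum Γ(V, ⊤)) := by
    have h1 := congrArg (fun g : Spec Γ(V, ⊤) ⟶ Spec Γ(V, ⊤) => g (⟨p, hp⟩ : PrimeSpectrum Γ(V, ⊤)))
      V.isoSpec_inv_toSpecΓ
    exact h1
  obtain ⟨y₀, hy₀⟩ := hg x
  obtain ⟨φ₀, hφ₀, -⟩ := exists_algebra g x y₀ hy₀
  -- the value at `y₀` comes from `κ(x)`
  obtain ⟨z, hz⟩ : ∃ z : V.residueField x, φ₀ z = W.Γevaluation y₀ s := by
    let _ : Algebra (V.residueField x) (W.residueField y₀) := φ₀.toAlgebra
    have h1 := tmul_eq g s hs (k := V.residueField x) (K := W.residueField y₀) (K' := W.residueField y₀)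
      (rpt V x) (rpt W y₀) (rpt W y₀) hφ₀ hφ₀
    obtain ⟨c, hc⟩ := Groth.Agent.Sga7.H153.DiffAlg.exists_scalar h1
    exact ⟨c, hc.trans (val_rpt y₀ s)⟩
  obtain ⟨a, r, hr, hra⟩ := SubIntScheme.exists_evaluation_mul_eq (isAffineOpen_top V) x trivial z
  refine ⟨a, r, ?_, ?_⟩
  · intro hrp
    apply hr
    have h1 : r ∈ (V.toSpecΓ x).asIdeal := by
      rw [hx]
      exact hrp
    exact (mem_toSpecΓ_iff x r).1 h1
  · intro q hq hqp
    obtain ⟨y, hy⟩ := surjective_toSpecΓ g (⟨q, hq⟩ : PrimeSpectrum Γ(W, ⊤))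
    have hgy : g y = x := by
      have h1 : V.toSpecΓ (g y) = V.toSpecΓ x := by
        have h2 := congrArg (fun f : W ⟶ Spec Γ(V, ⊤) => f y) (Scheme.toSpecΓ_naturality g)
        simp only [Scheme.Hom.comp_apply] at h2
        rw [h2, hy, hx]
        apply PrimeSpectrum.ext
        exact hqp
      exact V.isoSpec.hom.isOpenEmbedding.injective h1
    obtain ⟨φ, hφ, hφe⟩ := exists_algebra g x y hgy
    have h1 : W.Γevaluation y s = φ z := by
      let _ : Algebra (V.residueField x) (W.residueField y₀) := φ₀.toAlgebra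
      let _ : Algebra (V.residueField x) (W.residueField y) := φ.toAlgebra
      have h2 := tmul_eq g s hs (k := V.residueField x) (K := W.residueField y) (K' := W.residueField y₀)
        (rpt V x) (rpt W y) (rpt W y₀) hφ hφ₀
      rw [val_rpt, val_rpt, ← hz] at h2
      have h3 : (1 : W.residueField y) ⊗ₜ[V.residueField x] φ₀ z =
          (φ z) ⊗ₜ[V.residueField x] (1 : W.residueField y₀) :=
        (Algebra.TensorProduct.tmul_one_eq_one_tmul (R := V.residueField x) (A := W.residueField y)
          (B := W.residueField y₀) z).symm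
      rw [h3] at h2
      exact Algebra.TensorProduct.includeLeft_injective (R := V.residueField x) (S := V.residueField x)
        (A := W.residueField y) (B := W.residueField y₀) φ₀.injective h2
    have h2 : algebraMap Γ(V, ⊤) Γ(W, ⊤) r * s - algebraMap Γ(V, ⊤) Γ(W, ⊤) a ∈ (W.toSpecΓ y).asIdeal := by
      rw [mem_toSpecΓ_iff, map_sub, map_mul, h1, sub_eq_zero]
      have h3 : φ (V.evaluation ⊤ x trivial r * z) = φ (V.evaluation ⊤ x trivial a) := congrArg φ hra
      rw [map_mul] at h3
      have h4 : φ (V.evaluation ⊤ x trivial r) = W.Γevaluation y (algebraMap Γ(V, ⊤) Γ(W, ⊤) r) := hφe r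
      have h5 : φ (V.evaluation ⊤ x trivial a) = W.Γevaluation y (algebraMap Γ(V, ⊤) Γ(W, ⊤) a) := hφe a
      rw [← h4, ← h5, h3]
    rw [hy] at h2
    exact h2

end K347.DescSection
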