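import Groth.Agent.HTop.K347.DescSection
import Groth.Agent.S0418

/-!
# Descent of `p`-power classes of sections along universally closed surjective morphisms

Let `g : W ⟶ V` be universally closed and surjective with `V` affine of characteristic `p`. A global section
of `W` whose two pullbacks to `W ×_V W` coincide has a `p`-power which comes from `V`.
-/

set_option autoImplicit false

universe u

open CategoryTheory CategoryTheory.Limits AlgebraicGeometry

open scoped TensorProduct

namespace K347.FrobDesc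

open K347.DescSection

variable {V W : Scheme.{u}}

/-- A section with equal pullbacks is, modulo every prime over `p`, the same fraction. -/
theorem exists_frac (g : W ⟶ V) [IsAffine V] [UniversallyClosed g] (hg : Function.Surjective g)
    (s : Γ(W, ⊤)) (hs : (pullback.fst g g).appTop s = (pullback.snd g g).appTop s)
    (p : Ideal Γ(V, ⊤)) (hp : p.IsPrime) :
    ∃ a r : Γ(V, ⊤), r ∉ p ∧ ∀ q : Ideal Γ(W, ⊤), q.IsPrime → q.comap g.appTop.hom = p →
      g.appTop.hom r * s - g.appTop.hom a ∈ q := by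
  let x : V := V.isoSpec.inv (⟨p, hp⟩ : PrimeSpectrum Γ(V, ⊤))
  have hx : V.toSpecΓ x = (⟨p, hp⟩ : PrimeSpectrum Γ(V, ⊤)) := by
    have h1 := congrArg (fun g : Spec Γ(V, ⊤) ⟶ Spec Γ(V, ⊤) => g (⟨p, hp⟩ : PrimeSpectrum Γ(V, ⊤)))
      V.isoSpec_inv_toSpecΓ
    exact h1
  obtain ⟨y₀, hy₀⟩ := hg x
  obtain ⟨φ₀, hφ₀, -⟩ := exists_algebra g x y₀ hy₀
  -- the value at `y₀` comes from `κ(x)`
  obtain ⟨z, hz⟩ : ∃ z : V.residueField x, φ₀ z = W.Γevaluation y₀ s := by
    let _ : Algebra (V.residueField x) (W.residueField y₀) := φ₀.toAlgebra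
    have h1 := tmul_eq g s hs (k := V.residueField x) (K := W.residueField y₀) (K' := W.residueField y₀)
      (rpt V x) (rpt W y₀) (rpt W y₀) hφ₀ hφ₀
    obtain ⟨c, hc⟩ := Groth.Agent.Sga7.H153.DiffAlg.exists_scalar h1
    exact ⟨c, hc.trans (val_rpt y₀ s)⟩
  obtain ⟨a, r, hr, hra⟩ := SubIntScheme.exists_evaluation_mul_eq (isAffineOpen_top V) x trivial z
  refine ⟨a, r, ?_, ?_⟩
  · intro hrp
    apply hr
    have h1 : r ∈ (V.toSpecΓ x).asIdeal := by
      rw [hx]
      exact hrp
    exact (mem_toSpecΓ_iff x r).1 h1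
  · intro q hq hqp
    obtain ⟨y, hy⟩ := surjective_toSpecΓ g (⟨q, hq⟩ : PrimeSpectrum Γ(W, ⊤))
    have hgy : g y = x := by
      have h1 : V.toSpecΓ (g y) = V.toSpecΓ x := by
        have h2 := congrArg (fun f : W ⟶ Spec Γ(V, ⊤) => f y) (Scheme.toSpecΓ_naturality g)
        simp only [Scheme.Hom.comp_apply] at h2
        rw [h2, hy, hx]
        apply PrimeSpectrum.ext
        exact hqp
      exact V.isoSpec.hom.isOpenEmbedding.injective h1
    obtain ⟨φ, hφ, hφe⟩ := exists_algebra g x y hgy
    have h1 : W.Γevaluation y s = φ z := by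
      let _ : Algebra (V.residueField x) (W.residueField y₀) := φ₀.toAlgebra
      let _ : Algebra (V.residueField x) (W.residueField y) := φ.toAlgebra
      have h2 := tmul_eq g s hs (k := V.residueField x) (K := W.residueField y) (K' := W.residueField y₀)
        (rpt V x) (rpt W y) (rpt W y₀) hφ hφ₀
      rw [val_rpt, val_rpt, ← hz] at h2
      have h3 : (1 : W.residueField y) ⊗ₜ[V.residueField x] φ₀ z =
          (φ z) ⊗ₜ[V.residueField x] (1 : W.residueField y₀) :=
        (Algebra.TensorProduct.tmul_one_eq_one_tmul (R := V.residueField x) (A := W.residueField y)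
          (B := W.residueField y₀) z).symm
      rw [h3] at h2
      exact Algebra.TensorProduct.includeLeft_injective (R := V.residueField x) (S := V.residueField x)
        (A := W.residueField y) (B := W.residueField y₀) φ₀.injective h2
    have h2 : g.appTop.hom r * s - g.appTop.hom a ∈ (W.toSpecΓ y).asIdeal := by
      rw [mem_toSpecΓ_iff, map_sub, map_mul, h1, sub_eq_zero]
      have h3 : φ (V.evaluation ⊤ x trivial r * z) = φ (V.evaluation ⊤ x trivial a) := congrArg φ hra
      rw [map_mul] at h3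
      have h4 : φ (V.evaluation ⊤ x trivial r) = W.Γevaluation y (g.appTop.hom r) := hφe r
      have h5 : φ (V.evaluation ⊤ x trivial a) = W.Γevaluation y (g.appTop.hom a) := hφe a
      rw [← h4, ← h5, h3]
    rw [hy] at h2
    exact h2

/-- An element killed by a surjective morphism to a quasi-compact scheme is nilpotent. -/
theorem isNilpotent_of_appTop_eq_zero (g : W ⟶ V) [CompactSpace V] (hg : Function.Surjective g) (a : Γ(V, ⊤))
    (ha : g.appTop.hom a = 0) : IsNilpotent a := by
  have h1 : V.basicOpen a = ⊥ := by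
    rw [eq_bot_iff]
    intro x hx
    obtain ⟨y, rfl⟩ := hg x
    have h2 : y ∈ g ⁻¹ᵁ V.basicOpen a := hx
    rw [Scheme.preimage_basicOpen_top] at h2
    have ha' : g.appTop a = 0 := ha
    rw [ha', Scheme.basicOpen_zero] at h2
    exact h2
  exact (Scheme.isNilpotent_iff_basicOpen_eq_bot a).2 h1

/-- **Descent of `p`-power classes**: the existence part. -/
theorem exists_appTop_eq_pow (p : ℕ) (hp : p.Prime) (g : W ⟶ V) [IsAffine V] [UniversallyClosed g]
    (hg : Function.Surjective g) (hV : (p : Γ(V, ⊤)) = 0) (s : Γ(W, ⊤))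
    (hs : (pullback.fst g g).appTop s = (pullback.snd g g).appTop s) :
    ∃ (n : ℕ) (t : Γ(V, ⊤)), g.appTop.hom t = s ^ p ^ n := by
  let _ : Algebra Γ(V, ⊤) Γ(W, ⊤) := g.appTop.hom.toAlgebra
  have hint : Algebra.IsIntegral Γ(V, ⊤) Γ(W, ⊤) := ⟨isIntegral_appTop_of_universallyClosed g⟩
  let A' : Subalgebra Γ(V, ⊤) Γ(W, ⊤) := Algebra.adjoin Γ(V, ⊤) {s}
  have hsA : s ∈ A' := Algebra.subset_adjoin rfl
  let φ : Γ(V, ⊤) →+* A' := algebraMap Γ(V, ⊤) A'
  have hφ : ∀ a, (φ a : Γ(W, ⊤)) = g.appTop.hom a := fun a => rfl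
  have hint' : ∀ x : A', _root_.IsIntegral Γ(V, ⊤) x := fun x =>
    (isIntegral_algHom_iff A'.val Subtype.val_injective).1 (hint.isIntegral x)
  have hint2 : Algebra.IsIntegral A' Γ(W, ⊤) :=
    Algebra.IsIntegral.tower_top (R := Γ(V, ⊤)) (S := A') (T := Γ(W, ⊤))
  have hpA : (p : A') = 0 := by
    have h := congrArg φ hV
    rwa [map_natCast, map_zero] at h
  have hU : FlatMor.IsUnivHomeo (Spec.map (CommRingCat.ofHom φ)) := by
    refine Groth.Agent.S0418.isUnivHomeo_of (φ := φ) hint' ?_ ?_
    · intro a ha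
      rw [RingHom.mem_ker] at ha
      have h2 := congrArg (fun z : A' => (z : Γ(W, ⊤))) ha
      exact isNilpotent_of_appTop_eq_zero g hg a h2
    · intro K _ g₁ g₂ h12
      let ψ : Γ(V, ⊤) →+* K := g₁.comp φ
      have hprime : (RingHom.ker ψ).IsPrime := RingHom.ker_isPrime ψ
      obtain ⟨a, r, hr, har⟩ := exists_frac g hg s hs (RingHom.ker ψ) hprime
      have key : ∀ γ : A' →+* K, γ.comp φ = ψ → γ ⟨s, hsA⟩ = ψ a / ψ r := by
        intro γ hγ
        have hq : (RingHom.ker γ).IsPrime := RingHom.ker_isPrime γ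
        obtain ⟨Q, -, hQ, hQc⟩ := Ideal.exists_ideal_over_prime_of_isIntegral (R := A') (S := Γ(W, ⊤))
          (RingHom.ker γ) (⊥ : Ideal Γ(W, ⊤)) (by
            intro z hz
            have h1 : (z : Γ(W, ⊤)) = 0 := hz
            have h2 : z = 0 := Subtype.ext h1
            rw [h2]
            exact zero_mem _)
        have h1 := har Q hQ (by
          ext c
          rw [Ideal.mem_comap]
          have h2 : g.appTop.hom c ∈ Q ↔ φ c ∈ RingHom.ker γ := by
            rw [← hQc, Ideal.mem_comap]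
            rfl
          rw [h2, RingHom.mem_ker, RingHom.mem_ker, ← hγ]
          rfl)
        have h3 : φ r * (⟨s, hsA⟩ : A') - φ a ∈ RingHom.ker γ := by
          rw [← hQc, Ideal.mem_comap]
          exact h1
        rw [RingHom.mem_ker, map_sub, map_mul, sub_eq_zero] at h3
        have h4 : γ (φ r) = ψ r := congrArg (fun f => f r) hγ
        have h5 : γ (φ a) = ψ a := congrArg (fun f => f a) hγ
        have h6 : ψ r ≠ 0 := hr
        rw [h4, h5] at h3
        rw [eq_div_iff h6, mul_comm]
        exact h3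
      have hs12 : g₁ ⟨s, hsA⟩ = g₂ ⟨s, hsA⟩ := by
        rw [key g₁ rfl, key g₂ h12.symm]
      let _ : Algebra Γ(V, ⊤) K := ψ.toAlgebra
      let G₁ : A' →ₐ[Γ(V, ⊤)] K := { g₁ with commutes' := fun c => rfl }
      let G₂ : A' →ₐ[Γ(V, ⊤)] K := { g₂ with commutes' := fun c => (congrArg (fun f => f c) h12).symm }
      have h7 : G₁ = G₂ := by
        refine AlgHom.adjoin_ext ?_
        intro x hx
        have hx' : x = s := hx
        subst hx'
        exact hs12
      exact RingHom.ext fun c => congrArg (fun f : A' →ₐ[Γ(V, ⊤)] K => f c) h7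
  have hbij : Function.Bijective (Localization.awayMap φ (p : Γ(V, ⊤))) := by
    constructor
    · rw [Localization.awayMap_injective_iff]
      intro a _
      exact ⟨1, by rw [hV, pow_one, zero_mul]⟩
    · rw [Localization.awayMap_surjective_iff]
      intro a
      exact ⟨0, 1, by rw [map_natCast, hpA, pow_one, zero_mul, map_zero]⟩
  obtain ⟨-, h⟩ := (Groth.Agent.S0418.result φ p hp hbij).1 hU
  obtain ⟨n, -, t, ht⟩ := h ⟨s, hsA⟩
  refine ⟨n, t, ?_⟩
  rw [← hφ, ht]
  rfl

end K347.FrobDesc
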