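import Groth.Agent.HTop.K347.SheafifyQcqs
import Groth.Agent.HTop.K347.FrobDesc
import Groth.Agent.GmDual.K778.NormSch
import Groth.Prelude.Def_W4stkflatp2Frob

/-!
# The presheaf `colim_F Γ(X, O_X)` and finite open covers
-/

set_option autoImplicit false
universe w u

open CategoryTheory CategoryTheory.Limits AlgebraicGeometry Opposite HTop

namespace K347.FrobColim

open K347.SheafifyQcqs

variable {X : Scheme.{u}}

theorem mk_eq_mk_add (p : ℕ) (n k : ℕ) (a : Γ(X, ⊤)) :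
    FrobColimSections.mk p n a = FrobColimSections.mk p (n + k) (a ^ p ^ k) := by
  induction k with
  | zero => rw [pow_zero, pow_one, add_zero]
  | succ k ih =>
    rw [ih, FrobColimSections.sound, ← pow_mul, ← pow_succ, ← add_assoc]

theorem exists_of_mk_eq (p : ℕ) {n m : ℕ} {a b : Γ(X, ⊤)}
    (h : FrobColimSections.mk p n a = FrobColimSections.mk p m b) :
    ∃ k l, n + k = m + l ∧ a ^ p ^ k = b ^ p ^ l := by
  have h1 := Quot.eqvGen_exact h
  have key : ∀ x y : ℕ × Γ(X, ⊤), Relation.EqvGen (FrobColimRel p X) x y →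
      ∃ k l, x.1 + k = y.1 + l ∧ x.2 ^ p ^ k = y.2 ^ p ^ l := by
    intro x y hxy
    induction hxy with
    | rel x y h =>
      have h' : y = (x.1 + 1, x.2 ^ p) := h
      subst h'
      exact ⟨1, 0, by simp, by simp⟩
    | refl x => exact ⟨0, 0, rfl, rfl⟩
    | symm x y _ ih =>
      obtain ⟨k, l, h1, h2⟩ := ih
      exact ⟨l, k, h1.symm, h2.symm⟩
    | trans x y z _ _ ih1 ih2 =>
      obtain ⟨k, l, h1, h2⟩ := ih1
      obtain ⟨k', l', h3, h4⟩ := ih2
      refine ⟨k + k', l + l', by omega, ?_⟩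
      rw [pow_add, pow_mul, h2, ← pow_mul, mul_comm, pow_mul, h4, ← pow_mul, ← pow_add, add_comm l' l]
  exact key _ _ h1

/-- Equal classes in the same degree agree after a common power. -/
theorem exists_pow_eq_of_mk_eq (p : ℕ) {n : ℕ} {a b : Γ(X, ⊤)}
    (h : FrobColimSections.mk p n a = FrobColimSections.mk p n b) : ∃ k, ∀ l, k ≤ l → a ^ p ^ l = b ^ p ^ l := by
  obtain ⟨k, l, h1, h2⟩ := exists_of_mk_eq p h
  obtain rfl : k = l := by omega
  refine ⟨k, fun l hl => ?_⟩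
  obtain ⟨d, rfl⟩ := Nat.exists_eq_add_of_le hl
  rw [pow_add, pow_mul, h2, ← pow_mul]

theorem exists_rep (p : ℕ) (x : FrobColimSections p X) :
    ∃ n, ∀ m, n ≤ m → ∃ a : Γ(X, ⊤), FrobColimSections.mk p m a = x := by
  induction x using Quot.ind with
  | mk x =>
    refine ⟨x.1, fun m hm => ?_⟩
    obtain ⟨d, rfl⟩ := Nat.exists_eq_add_of_le hm
    exact ⟨x.2 ^ p ^ d, (mk_eq_mk_add p x.1 d x.2).symm⟩

theorem exists_common {κ : Type*} [Finite κ] (P : κ → ℕ → Prop) (h : ∀ k, ∃ n, ∀ m, n ≤ m → P k m) :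
    ∃ n, ∀ m, n ≤ m → ∀ k, P k m := by
  classical
  choose n hn using h
  obtain ⟨N, hN⟩ := (Set.finite_range n).bddAbove
  exact ⟨N, fun m hm k => hn k m ((hN ⟨k, rfl⟩).trans hm)⟩

variable (p : ℕ)

theorem finSep_aux (X : Scheme.{u}) {κ : Type u} [Finite κ] (U : κ → X.Opens) (hU : ⨆ k, U k = ⊤)
    (x y : FrobColimSections p X)
    (h : ∀ k, FrobColimSections.map p (U k).ι x = FrobColimSections.map p (U k).ι y) : x = y := by
  obtain ⟨n₁, h₁⟩ := exists_rep p x
  obtain ⟨n₂, h₂⟩ := exists_rep p y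
  obtain ⟨a, rfl⟩ := h₁ (max n₁ n₂) (le_max_left _ _)
  obtain ⟨b, rfl⟩ := h₂ (max n₁ n₂) (le_max_right _ _)
  have h3 : ∀ k, ∃ n, ∀ m, n ≤ m →
      ((U k).ι.appTop.hom a) ^ p ^ m = ((U k).ι.appTop.hom b) ^ p ^ m := by
    intro k
    have := h k
    rw [FrobColimSections.map_mk, FrobColimSections.map_mk] at this
    exact exists_pow_eq_of_mk_eq p this
  obtain ⟨m, hm⟩ := exists_common _ h3
  rw [mk_eq_mk_add p _ m a, mk_eq_mk_add p _ m b]
  congr 1
  refine K778.NormSch.ext_appTop X U hU.ge _ _ fun k => ?_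
  have h4 := hm m le_rfl k
  rw [← map_pow, ← map_pow] at h4
  exact h4

theorem finGlue_aux (X : Scheme.{u}) {κ : Type u} [Finite κ] (U : κ → X.Opens) (hU : ⨆ k, U k = ⊤)
    (x : ∀ k, FrobColimSections p (U k).toScheme)
    (h : ∀ k l, FrobColimSections.map p (X.homOfLE (inf_le_left : U k ⊓ U l ≤ U k)) (x k) =
      FrobColimSections.map p (X.homOfLE (inf_le_right : U k ⊓ U l ≤ U l)) (x l)) :
    ∃ y : FrobColimSections p X, ∀ k, FrobColimSections.map p (U k).ι y = x k := by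
  obtain ⟨n, hn⟩ := exists_common _ fun k => exists_rep p (x k)
  choose a ha using hn n le_rfl
  have h3 : ∀ kl : κ × κ, ∃ n, ∀ m, n ≤ m →
      ((X.homOfLE (inf_le_left : U kl.1 ⊓ U kl.2 ≤ U kl.1)).appTop.hom (a kl.1)) ^ p ^ m =
      ((X.homOfLE (inf_le_right : U kl.1 ⊓ U kl.2 ≤ U kl.2)).appTop.hom (a kl.2)) ^ p ^ m := by
    rintro ⟨k, l⟩
    have := h k l
    rw [← ha, ← ha, FrobColimSections.map_mk, FrobColimSections.map_mk] at this
    exact exists_pow_eq_of_mk_eq p this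
  obtain ⟨m, hm⟩ := exists_common _ h3
  obtain ⟨t, ht⟩ := K778.NormSch.glue_appTop X U hU.ge (fun k => (a k) ^ p ^ m) (by
    intro k l
    have h4 := hm m le_rfl (k, l)
    rw [← map_pow, ← map_pow] at h4
    exact h4)
  refine ⟨FrobColimSections.mk p (n + m) t, fun k => ?_⟩
  rw [FrobColimSections.map_mk, ← ha, mk_eq_mk_add p n m (a k)]
  exact congrArg _ (ht k)

variable (S : Scheme.{u})

theorem finSep : FinSep (frobColimPresheaf p S ⋙ uliftFunctor.{u + 1, u}) := by
  intro X κ _ U hU x y h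
  have h1 : x.down = y.down := finSep_aux p X.left U hU x.down y.down fun k =>
    congrArg ULift.down (h k)
  exact ULift.down_injective h1

theorem finGlue : FinGlue (frobColimPresheaf p S ⋙ uliftFunctor.{u + 1, u}) := by
  intro X κ _ U hU x h
  obtain ⟨y, hy⟩ := finGlue_aux p X.left U hU (fun k => (x k).down) fun k l =>
    congrArg ULift.down (h k l)
  exact ⟨ULift.up y, fun k => ULift.down_injective (hy k)⟩

end K347.FrobColim
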