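import Groth.Agent.HTop.K347.FrobSheaf

/-!
# `S9031` from the h-sheaf criterion (hypothesis form)
-/

set_option autoImplicit false
universe w u

open CategoryTheory CategoryTheory.Limits AlgebraicGeometry Opposite HTop

namespace K347.FrobMain

open K347.SheafifyQcqs K347.FrobColim

theorem main (crit : ∀ (S : Scheme.{u}) (F : (Over S)ᵒᵖ ⥤ Type (u + 1)), Presieve.IsSheaf (HTop.Jh S) F ↔ (Presieve.IsSheaf (Scheme.zariskiTopology.over S) F ∧ ∀ (U V : Over S) (f : V ⟶ U), IsAffine U.left → IsProper f.left → Surjective f.left → LocallyOfFinitePresentation f.left → Presieve.IsSheafFor F (Presieve.singleton f)))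
    (p : ℕ) [Fact p.Prime] (S : Scheme.{u}) (hS : (p : Γ(S, ⊤)) = 0) :
    Presheaf.IsSheaf (HTop.Jh S)
      ((QuotSh.J Scheme.zariskiPrecoverage S).sheafify (HTop.frobColimPresheaf p S ⋙ uliftFunctor.{u + 1, u})) ∧
    ∀ (X : Over S) [CompactSpace X.left] [QuasiSeparatedSpace X.left],
      Function.Bijective
        (((QuotSh.J Scheme.zariskiPrecoverage S).toSheafify (HTop.frobColimPresheaf p S ⋙ uliftFunctor.{u + 1, u})).app (op X)) := by
  refine ⟨?_, fun X _ _ => bijective_toSheafify _ (finSep p S) (finGlue p S) X⟩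
  rw [isSheaf_iff_isSheaf_of_type]
  refine (crit S _).2 ⟨(isSheaf_iff_isSheaf_of_type _ _).1 (GrothendieckTopology.sheafify_isSheaf _ _), ?_⟩
  intro U V f h1 h2 h3 _
  exact FrobSheaf.isSheafFor p S (Fact.out : p.Prime) hS f

end K347.FrobMain
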