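import Groth.Agent.HTop.K347.FrobColim
import Mathlib.CategoryTheory.Sites.IsSheafFor

/-!
# The sheaf condition of the sheafified presheaf `colim_F Γ(X, O_X)` for proper surjective morphisms
-/

set_option autoImplicit false
universe w u

open CategoryTheory CategoryTheory.Limits AlgebraicGeometry Opposite HTop

namespace K347.FrobSheaf

open K347.SheafifyQcqs K347.FrobColim

variable (p : ℕ) (S : Scheme.{u})

/-- `p = 0` on every `S`-scheme. -/
theorem natCast_eq_zero (hS : (p : Γ(S, ⊤)) = 0) (X : Over S) : (p : Γ(X.left, ⊤)) = 0 := by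
  have h := congrArg X.hom.appTop.hom hS
  rwa [map_natCast, map_zero] at h

theorem eq_of_map_eq (hp : p.Prime) {V U : Scheme.{u}} [CompactSpace U] (g : V ⟶ U) (hg : Function.Surjective g)
    (hU : (p : Γ(U, ⊤)) = 0) (x y : FrobColimSections p U)
    (h : FrobColimSections.map p g x = FrobColimSections.map p g y) : x = y := by
  obtain ⟨n₁, h₁⟩ := exists_rep p x
  obtain ⟨n₂, h₂⟩ := exists_rep p y
  obtain ⟨a, rfl⟩ := h₁ (max n₁ n₂) (le_max_left _ _)
  obtain ⟨b, rfl⟩ := h₂ (max n₁ n₂) (le_max_right _ _)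
  rw [FrobColimSections.map_mk, FrobColimSections.map_mk] at h
  obtain ⟨k, hk⟩ := exists_pow_eq_of_mk_eq p h
  have h3 := hk k le_rfl
  rw [← map_pow, ← map_pow, ← sub_eq_zero, ← map_sub] at h3
  obtain ⟨l, hl⟩ := FrobDesc.isNilpotent_of_appTop_eq_zero g hg _ h3
  have : CharP Γ(U, ⊤) p ∨ Subsingleton Γ(U, ⊤) := by
    rcases subsingleton_or_nontrivial Γ(U, ⊤) with h | h
    · exact Or.inr h
    · refine Or.inl ⟨fun n => ⟨fun hn => ?_, fun hn => ?_⟩⟩
      · by_contra hnd
        have hc : Nat.Coprime n p := (Nat.Coprime.symm ((Nat.Prime.coprime_iff_not_dvd hp).2 hnd))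
        have h5 : IsCoprime (n : Γ(U, ⊤)) (p : Γ(U, ⊤)) := by
          have := (Nat.isCoprime_iff_coprime.2 hc).map (Int.castRingHom Γ(U, ⊤))
          simpa using this
        rw [hn, hU] at h5
        exact not_isCoprime_zero_zero h5
      · obtain ⟨c, rfl⟩ := hn
        rw [Nat.cast_mul, hU, zero_mul]
  rw [mk_eq_mk_add p _ (k + l) a, mk_eq_mk_add p _ (k + l) b]
  congr 1
  rcases this with h | h
  · have : Fact p.Prime := ⟨hp⟩
    have : ExpChar Γ(U, ⊤) p := ExpChar.prime hp
    rw [pow_add, pow_mul, pow_mul, ← sub_eq_zero, ← sub_pow_expChar_pow]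
    exact pow_eq_zero_of_le (Nat.lt_pow_self hp.one_lt).le hl
  · exact Subsingleton.elim _ _

theorem isSheafFor (hp : p.Prime) (hS : (p : Γ(S, ⊤)) = 0) {U V : Over S} (f : V ⟶ U) [IsAffine U.left]
    [IsProper f.left] [Surjective f.left] :
    Presieve.IsSheafFor ((Scheme.zariskiTopology.{u}.over S).sheafify
      (frobColimPresheaf p S ⋙ uliftFunctor.{u + 1, u})) (Presieve.singleton f) := by
  set Q := frobColimPresheaf p S ⋙ uliftFunctor.{u + 1, u} with hQ
  set J := Scheme.zariskiTopology.{u}.over S with hJ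
  have hV1 : CompactSpace V.left := (quasiCompact_iff_compactSpace f.left).mp inferInstance
  have hV2 : QuasiSeparatedSpace V.left := (quasiSeparated_iff_quasiSeparatedSpace f.left).mp inferInstance
  have hUb := bijective_toSheafify Q (finSep p S) (finGlue p S) U
  have hVb := bijective_toSheafify Q (finSep p S) (finGlue p S) V
  let W : Over S := Over.mk (pullback.fst f.left f.left ≫ V.hom)
  let q₁ : W ⟶ V := Over.homMk (pullback.fst f.left f.left) rfl
  let q₂ : W ⟶ V := Over.homMk (pullback.snd f.left f.left) (by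
    change pullback.snd f.left f.left ≫ V.hom = pullback.fst f.left f.left ≫ V.hom
    rw [← Over.w f, ← pullback.condition_assoc])
  have hW1 : CompactSpace W.left :=
    (quasiCompact_iff_compactSpace (pullback.fst f.left f.left ≫ f.left)).mp inferInstance
  have hWb := injective_toSheafify Q (finSep p S) W
  rw [Presieve.isSheafFor_singleton]
  intro s hs
  obtain ⟨x, hx⟩ := hVb.2 s
  have h1 : Q.map q₁.op x = Q.map q₂.op x := by
    apply hWb
    rw [NatTrans.naturality_apply (J.toSheafify Q) q₁.op x, NatTrans.naturality_apply (J.toSheafify Q) q₂.op x,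
      hx]
    exact hs q₁ q₂ (by
      ext1
      exact pullback.condition)
  have h2 : FrobColimSections.map p (pullback.fst f.left f.left) x.down =
      FrobColimSections.map p (pullback.snd f.left f.left) x.down := congrArg ULift.down h1
  obtain ⟨n, hn⟩ := exists_rep p x.down
  obtain ⟨b, hb⟩ := hn n le_rfl
  rw [← hb, FrobColimSections.map_mk, FrobColimSections.map_mk] at h2
  obtain ⟨k, hk⟩ := exists_pow_eq_of_mk_eq p h2
  have h3 := hk k le_rfl
  rw [← map_pow, ← map_pow] at h3
  obtain ⟨m, t, ht⟩ := FrobDesc.exists_appTop_eq_pow p hp f.left f.left.surjective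
    (natCast_eq_zero p S hS U) (b ^ p ^ k) h3
  let y : FrobColimSections p U.left := FrobColimSections.mk p (n + (k + m)) t
  have hy : FrobColimSections.map p f.left y = x.down := by
    rw [FrobColimSections.map_mk, ht, ← hb, mk_eq_mk_add p n (k + m) b, ← pow_mul, ← pow_add]
  have hy' : Q.map f.op (ULift.up y) = x := ULift.down_injective hy
  refine ⟨(J.toSheafify Q).app (op U) (ULift.up y), ?_, ?_⟩
  · change (J.sheafify Q).map f.op _ = s
    rw [← NatTrans.naturality_apply (J.toSheafify Q) f.op, hy', hx]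
  · intro z hz
    obtain ⟨z', rfl⟩ := hUb.2 z
    congr 1
    have hz' : (J.sheafify Q).map f.op ((J.toSheafify Q).app (op U) z') = s := hz
    rw [← NatTrans.naturality_apply (J.toSheafify Q) f.op, ← hx] at hz'
    have h5 := hVb.1 hz'
    apply ULift.down_injective
    exact eq_of_map_eq p hp f.left f.left.surjective (natCast_eq_zero p S hS U) _ _
      ((congrArg ULift.down h5).trans hy.symm)

end K347.FrobSheaf
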