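import Mathlib.Algebra.Polynomial.Laurent
import Mathlib.Algebra.CharP.Lemmas
import Mathlib.Algebra.CharP.Basic
import Mathlib.RingTheory.Ideal.Quotient.Operations
import Mathlib.RingTheory.Noetherian.Basic
import Mathlib.Tactic.LinearCombination

/-!
# Algebra of the charts of a two-generated modification
-/

set_option autoImplicit false

namespace K347.LimAlg

open Polynomial LaurentPolynomial

section Charts

variable {A : Type*} [CommRing A]

theorem exists_decomp (c : A[T;T⁻¹]) : ∃ a b : A[X], c = toLaurent a + T (-1) * invert (toLaurent b) := by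
  induction c using LaurentPolynomial.induction_on' with
  | add p q hp hq =>
    obtain ⟨a, b, h⟩ := hp
    obtain ⟨a', b', h'⟩ := hq
    refine ⟨a + a', b + b', ?_⟩
    rw [h, h', map_add, map_add, map_add]
    ring
  | C_mul_T n r =>
    rcases lt_or_ge n 0 with hn | hn
    · obtain ⟨m, hm⟩ : ∃ m : ℕ, n = -1 + -(m : ℤ) := ⟨(-n - 1).toNat, by omega⟩
      refine ⟨0, Polynomial.C r * X ^ m, ?_⟩
      rw [map_zero, zero_add, toLaurent_C_mul_X_pow, map_mul, invert_C, invert_T, hm, T_add]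
      ring
    · obtain ⟨m, rfl⟩ := Int.eq_ofNat_of_zero_le hn
      refine ⟨Polynomial.C r * X ^ m, 0, ?_⟩
      rw [map_zero, map_zero, mul_zero, add_zero, toLaurent_C_mul_X_pow]

theorem trunc_invert (h : A[X]) : trunc (invert (toLaurent h)) = Polynomial.C (h.coeff 0) := by
  induction h using Polynomial.induction_on' with
  | add p q hp hq =>
    rw [map_add, map_add, map_add, hp, hq, coeff_add, Polynomial.C_add]
  | monomial n r =>
    rw [← Polynomial.C_mul_X_pow_eq_monomial, toLaurent_C_mul_X_pow, map_mul, invert_C, invert_T, trunc_C_mul_T]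
    rcases Nat.eq_zero_or_pos n with rfl | hn
    · simp
    · have h1 : ¬ (0 : ℤ) ≤ -(n : ℤ) := by omega
      rw [if_neg h1, coeff_C_mul_X_pow, if_neg (by omega), Polynomial.C_0]

theorem exists_const (g h : A[X]) (e : toLaurent g = invert (toLaurent h)) :
    ∃ a : A, g = Polynomial.C a ∧ h = Polynomial.C a := by
  have h1 : g = Polynomial.C (h.coeff 0) := by
    rw [← trunc_invert, ← e, trunc_toLaurent]
  have h2 : h = Polynomial.C (g.coeff 0) := by
    rw [← trunc_invert, e]
    rw [show invert (invert (toLaurent h)) = toLaurent h from involutive_invert _, trunc_toLaurent]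
  refine ⟨h.coeff 0, h1, ?_⟩
  conv_lhs => rw [h2, h1, coeff_C_zero]

/-- Functions on the two charts which agree on the overlap come from the base. -/
theorem exists_lift (f₁ f₂ : A) (g h : A[X])
    (e : toLaurent g - invert (toLaurent h) ∈
      Ideal.span {(LaurentPolynomial.C f₂ - LaurentPolynomial.C f₁ * T 1 : A[T;T⁻¹])}) :
    ∃ a : A, g - Polynomial.C a ∈ Ideal.span {Polynomial.C f₂ - Polynomial.C f₁ * X} ∧
      h - Polynomial.C a ∈ Ideal.span {Polynomial.C f₁ - Polynomial.C f₂ * X} := by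
  obtain ⟨c, hc⟩ := Ideal.mem_span_singleton'.1 e
  obtain ⟨u, v, rfl⟩ := exists_decomp c
  have hT : (T (-1) : A[T;T⁻¹]) * T 1 = 1 := by rw [← T_add]; simp
  obtain ⟨a, ha, hb⟩ := exists_const (g - u * (Polynomial.C f₂ - Polynomial.C f₁ * X))
    (h - v * (Polynomial.C f₁ - Polynomial.C f₂ * X)) (by
      simp only [map_sub, map_mul, Polynomial.toLaurent_C, Polynomial.toLaurent_X, invert_C, invert_T]
      linear_combination (-1 : A[T;T⁻¹]) * hc -
        (invert (toLaurent v)) * LaurentPolynomial.C f₁ * hT)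
  refine ⟨a, ?_, ?_⟩
  · rw [← ha, sub_sub_cancel]
    exact Ideal.mul_mem_left _ _ (Ideal.mem_span_singleton_self _)
  · rw [← hb, sub_sub_cancel]
    exact Ideal.mul_mem_left _ _ (Ideal.mem_span_singleton_self _)

/-- A constant vanishing on both charts has square zero. -/
theorem sq_eq_zero (f₁ f₂ k : A) (h1 : Polynomial.C k ∈ Ideal.span {Polynomial.C f₂ - Polynomial.C f₁ * X})
    (h2 : Polynomial.C k ∈ Ideal.span {Polynomial.C f₁ - Polynomial.C f₂ * X}) : k ^ 2 = 0 := by
  obtain ⟨g, hg⟩ := Ideal.mem_span_singleton'.1 h1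
  obtain ⟨h, hh⟩ := Ideal.mem_span_singleton'.1 h2
  have g0 : k = g.coeff 0 * f₂ := by
    have := congrArg (fun q => q.coeff 0) hg
    simpa [mul_sub, ← mul_assoc] using this.symm
  have h0 : k = h.coeff 0 * f₁ := by
    have := congrArg (fun q => q.coeff 0) hh
    simpa [mul_sub, ← mul_assoc] using this.symm
  have gs : ∀ n, g.coeff (n + 1) * f₂ = g.coeff n * f₁ := by
    intro n
    have := congrArg (fun q => q.coeff (n + 1)) hg
    simpa [mul_sub, ← mul_assoc, coeff_C_succ, sub_eq_zero] using this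
  have hs : ∀ n, h.coeff (n + 1) * f₁ = h.coeff n * f₂ := by
    intro n
    have := congrArg (fun q => q.coeff (n + 1)) hh
    simpa [mul_sub, ← mul_assoc, coeff_C_succ, sub_eq_zero] using this
  have key : ∀ n, k ^ 2 = (g.coeff n * f₂) * (h.coeff n * f₁) := by
    intro n
    induction n with
    | zero => rw [← g0, ← h0, sq]
    | succ n ih =>
      rw [ih, gs, hs]
      ring
  rw [key (g.natDegree + 1), coeff_eq_zero_of_natDegree_lt (Nat.lt_succ_self _), zero_mul, zero_mul]

end Charts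

section Closed

variable {A : Type*} [CommRing A]

theorem exists_lift_closed (I J : Ideal A) (a b : A) (h : a - b ∈ I ⊔ J) : ∃ c : A, a - c ∈ I ∧ b - c ∈ J := by
  obtain ⟨x, hx, y, hy, h⟩ := Submodule.mem_sup.1 h
  refine ⟨a - x, by rwa [sub_sub_cancel], ?_⟩
  have : b - (a - x) = -y := by linear_combination h
  rw [this]
  exact neg_mem hy

theorem pow_eq_zero_closed (f : A) (J : Ideal A) (n : ℕ) (hJ : ∀ j ∈ J, f ^ n * j = 0) (k : A)
    (h1 : k ∈ Ideal.span {f}) (h2 : k ∈ J) : k ^ (n + 1) = 0 := by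
  obtain ⟨c, hc⟩ := Ideal.mem_span_singleton'.1 h1
  have : k ^ (n + 1) = c ^ n * (f ^ n * k) := by
    rw [pow_succ]
    nth_rw 1 [← hc]
    rw [mul_pow]
    ring
  rw [this, hJ k h2, mul_zero]

/-- In a Noetherian ring, the ideal of elements killed by a power of `f` is killed by one power of `f`. -/
theorem exists_torsion [IsNoetherianRing A] (f : A) : ∃ (n : ℕ) (J : Ideal A), (∀ j ∈ J, f ^ n * j = 0) ∧
    ∀ a : A, f * a ∈ J → a ∈ J := by
  let K : ℕ →o Ideal A := ⟨fun n => LinearMap.ker (LinearMap.mulLeft A (f ^ n)), by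
    intro n m hnm x hx
    rw [LinearMap.mem_ker, LinearMap.mulLeft_apply] at hx ⊢
    obtain ⟨k, rfl⟩ := Nat.exists_eq_add_of_le hnm
    rw [pow_add, mul_comm (f ^ n), mul_assoc, hx, mul_zero]⟩
  obtain ⟨n, hn⟩ := monotone_stabilizes_iff_noetherian.2 ‹IsNoetherianRing A› K
  refine ⟨n, K n, fun j hj => hj, fun a ha => ?_⟩
  rw [hn (n + 1) (Nat.le_succ n)]
  have : f ^ n * (f * a) = 0 := ha
  change f ^ (n + 1) * a = 0
  rw [pow_succ, mul_assoc, this]

end Closed

section Frob

variable {A B C D : Type*} [CommRing A] [CommRing B] [CommRing C] [CommRing D]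

theorem sub_pow_pow (p : ℕ) [hp : Fact p.Prime] (hA : (p : A) = 0) (x y : A) (n : ℕ) :
    (x - y) ^ p ^ n = x ^ p ^ n - y ^ p ^ n := by
  rcases subsingleton_or_nontrivial A with h | h
  · exact Subsingleton.elim _ _
  · have : CharP A p := (CharP.charP_iff_prime_eq_zero hp.out).2 hA
    exact sub_pow_char_pow x y n

theorem iter (p : ℕ) (d : ℕ → A) (hd : ∀ n, d (n + 1) ^ p = d n) (n k : ℕ) : d (n + k) ^ p ^ k = d n := by
  induction k with
  | zero => simp
  | succ k ih => rw [← add_assoc, pow_succ', pow_mul, hd, ih]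

/-- Compatible sequences of `p`-th roots lift uniquely along a map with nilpotent kernel of bounded exponent which
is exact up to that. -/
theorem existsUnique_seq (p : ℕ) [hp : Fact p.Prime] (hA : (p : A) = 0) (φ : A →+* B) (ψ : A →+* C) (α : B →+* D)
    (β : C →+* D) (hlift : ∀ (b : B) (c : C), α b = β c → ∃ a, φ a = b ∧ ψ a = c)
    (N : ℕ) (hN : ∀ k, φ k = 0 → ψ k = 0 → k ^ N = 0)
    (b : ℕ → B) (c : ℕ → C) (hb : ∀ n, b (n + 1) ^ p = b n) (hc : ∀ n, c (n + 1) ^ p = c n)
    (hbc : ∀ n, α (b n) = β (c n)) :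
    ∃! a : ℕ → A, (∀ n, a (n + 1) ^ p = a n) ∧ (∀ n, φ (a n) = b n) ∧ ∀ n, ψ (a n) = c n := by
  obtain ⟨m, hm⟩ : ∃ m, N ≤ p ^ m := ⟨N, (Nat.lt_pow_self hp.out.one_lt).le⟩
  have hN' : ∀ k, φ k = 0 → ψ k = 0 → k ^ p ^ m = 0 := by
    intro k h1 h2
    obtain ⟨r, hr⟩ := Nat.exists_eq_add_of_le hm
    rw [hr, pow_add, hN k h1 h2, zero_mul]
  choose a' h1 h2 using fun n => hlift (b n) (c n) (hbc n)
  refine ⟨fun n => a' (n + m) ^ p ^ m, ⟨fun n => ?_, fun n => ?_, fun n => ?_⟩, ?_⟩
  · have h3 := hN' (a' (n + 1 + m) ^ p - a' (n + m)) (by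
      rw [map_sub, map_pow, h1, h1, show n + 1 + m = n + m + 1 by ring, hb, sub_self]) (by
      rw [map_sub, map_pow, h2, h2, show n + 1 + m = n + m + 1 by ring, hc, sub_self])
    rw [sub_pow_pow p hA, sub_eq_zero] at h3
    change (a' (n + 1 + m) ^ p ^ m) ^ p = a' (n + m) ^ p ^ m
    rw [← h3, ← pow_mul, ← pow_mul, mul_comm]
  · change φ (a' (n + m) ^ p ^ m) = b n
    rw [map_pow, h1, iter p b hb]
  · change ψ (a' (n + m) ^ p ^ m) = c n
    rw [map_pow, h2, iter p c hc]
  · rintro a ⟨e1, e2, e3⟩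
    funext n
    have h3 := hN' (a (n + m) - a' (n + m)) (by rw [map_sub, h1, e2, sub_self]) (by rw [map_sub, h2, e3, sub_self])
    rw [sub_pow_pow p hA, sub_eq_zero, iter p a e1] at h3
    exact h3

end Frob

end K347.LimAlg
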