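import Groth.Prelude.Def_W4stkflatFrob
import Groth.Agent.Sga3B.GaPts
import Groth.Agent.HTop.K343.Topo
import Mathlib.AlgebraicGeometry.Sites.Fpqc
import Mathlib.CategoryTheory.Sites.SubcanonicalOver

/-!
# Compatible sequences of `p`-th roots of functions form an fpqc sheaf
-/

set_option autoImplicit false
universe u

open CategoryTheory CategoryTheory.Limits AlgebraicGeometry HTop Opposite

namespace K347.LimFpqc

open Groth.Agent.Sga3B.GaPts

variable {S : Scheme.{u}}

theorem eq_of_mem {Y : Over S} (R : Sieve Y) (hR : R ∈ (Scheme.fpqcTopology.{u}.over S) Y) (a b : Γ(Y.left, ⊤))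
    (h : ∀ (T : Over S) (g : T ⟶ Y), R g → g.left.appTop a = g.left.appTop b) : a = b := by
  have hs : Presieve.IsSheaf (Scheme.fpqcTopology.{u}.over S) (yoneda.obj (Red.Ga S)) :=
    GrothendieckTopology.Subcanonical.isSheaf_of_isRepresentable _
  have h1 : gaPt Y a = gaPt Y b := by
    refine (hs R hR).isSeparatedFor.ext fun T g hg => ?_
    change g ≫ gaPt Y a = g ≫ gaPt Y b
    rw [comp_gaPt, comp_gaPt, h T g hg]
  rw [← gaFn_gaPt Y a, h1, gaFn_gaPt]

theorem exists_of_mem {Y : Over S} (R : Sieve Y) (hR : R ∈ (Scheme.fpqcTopology.{u}.over S) Y)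
    (x : ∀ (T : Over S) (g : T ⟶ Y), R g → Γ(T.left, ⊤))
    (hx : ∀ (T T' : Over S) (g : T ⟶ Y) (hg : R g) (k : T' ⟶ T) (hk : R (k ≫ g)),
      k.left.appTop (x T g hg) = x T' (k ≫ g) hk) :
    ∃ a : Γ(Y.left, ⊤), ∀ (T : Over S) (g : T ⟶ Y) (hg : R g), g.left.appTop a = x T g hg := by
  have hs : Presieve.IsSheaf (Scheme.fpqcTopology.{u}.over S) (yoneda.obj (Red.Ga S)) :=
    GrothendieckTopology.Subcanonical.isSheaf_of_isRepresentable _
  let y : Presieve.FamilyOfElements (yoneda.obj (Red.Ga S)) R.arrows := fun T g hg => gaPt T (x T g hg)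
  have hy : y.Compatible := by
    rw [Presieve.compatible_iff_sieveCompatible]
    intro T T' g k hg
    change gaPt T' _ = k ≫ gaPt T _
    rw [comp_gaPt, hx T T' g hg k (R.downward_closed hg k)]
  obtain ⟨s, hs, -⟩ := hs R hR y hy
  refine ⟨Red.gaFn s, fun T g hg => ?_⟩
  have h1 : g ≫ s = gaPt T (x T g hg) := hs g hg
  rw [← gaFn_comp, h1, gaFn_gaPt]

theorem isSheaf_fpqc (p : ℕ) : Presieve.IsSheaf (Scheme.fpqcTopology.{u}.over S) (HTop.frobLimPresheaf p S) := by
  intro Y R hR x hx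
  have hx' : ∀ (T T' : Over S) (g : T ⟶ Y) (hg : R g) (k : T' ⟶ T) (hk : R (k ≫ g)),
      (HTop.frobLimPresheaf p S).map k.op (x g hg) = x (k ≫ g) hk := by
    intro T T' g hg k hk
    exact ((Presieve.compatible_iff_sieveCompatible x).1 hx g k hg).symm
  choose a ha using fun n : ℕ => exists_of_mem R hR (fun T g hg => (x g hg).1 n) (fun T T' g hg k hk =>
    congrArg (fun z : HTop.FrobLimSections p T'.left => z.1 n) (hx' T T' g hg k hk))
  refine ⟨⟨a, fun n => ?_⟩, fun T g hg => ?_, ?_⟩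
  · refine eq_of_mem R hR _ _ fun T g hg => ?_
    rw [map_pow, ha, ha]
    exact (x g hg).2 n
  · apply HTop.FrobLimSections.ext
    intro n
    exact ha n T g hg
  · intro b hb
    apply HTop.FrobLimSections.ext
    intro n
    refine eq_of_mem R hR _ _ fun T g hg => ?_
    rw [ha]
    exact congrArg (fun z : HTop.FrobLimSections p T.left => z.1 n) (hb g hg)

theorem fpqc_le_shTop (p : ℕ) : Scheme.fpqcTopology.{u} ≤ K343.Topo.shTop (HTop.frobLimPresheaf p S) :=
  K343.Topo.le_shTop_of_isSheaf _ _ (isSheaf_fpqc p)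

theorem zariski_le_shTop (p : ℕ) : Scheme.zariskiTopology.{u} ≤ K343.Topo.shTop (HTop.frobLimPresheaf p S) :=
  Scheme.zariskiTopology_le_fpqcTopology.trans (fpqc_le_shTop p)

theorem isSheaf_zariski (p : ℕ) : Presieve.IsSheaf (Scheme.zariskiTopology.{u}.over S) (HTop.frobLimPresheaf p S) :=
  K343.Topo.isSheaf_of_le_shTop _ _ (zariski_le_shTop p)

end K347.LimFpqc
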