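import Groth.Agent.HTop.K347.LimAlg
import Groth.Agent.HTop.K347.LimFpqc
import Groth.Agent.HTop.K347.CovD
import Groth.Agent.HTop.K347.FrobSheaf

/-!
# Two families of coverings for the inverse limit of the functions along the Frobenius
-/

set_option autoImplicit false
universe u

open CategoryTheory CategoryTheory.Limits AlgebraicGeometry HTop Opposite

namespace K347.LimCov

open K347.Two K347.CovD K343.Topo K347.LimFpqc

/-- The morphism `Spec B ⟶ X` given by a ring map `Γ(X) → B`, for `X` affine. -/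
noncomputable def sp {X : Scheme.{u}} [IsAffine X] {B : Type u} [CommRing B] (φ : Γ(X, ⊤) →+* B) :
    Spec (CommRingCat.of B) ⟶ X :=
  Spec.map (CommRingCat.ofHom φ) ≫ X.isoSpec.inv

theorem isoSpec_inv_appTop (X : Scheme.{u}) [IsAffine X] :
    X.isoSpec.inv.appTop = (Scheme.ΓSpecIso Γ(X, ⊤)).inv := by
  have h1 : (X.isoSpec.inv ≫ X.toSpecΓ).appTop = 𝟙 _ := by
    rw [Scheme.isoSpec_inv_toSpecΓ]
    rfl
  rw [Scheme.Hom.comp_appTop, Scheme.toSpecΓ_appTop] at h1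
  rw [← cancel_epi (Scheme.ΓSpecIso Γ(X, ⊤)).hom, Iso.hom_inv_id]
  exact h1

theorem sp_appTop {X : Scheme.{u}} [IsAffine X] {B : Type u} [CommRing B] (φ : Γ(X, ⊤) →+* B) :
    (sp φ).appTop = CommRingCat.ofHom φ ≫ (Scheme.ΓSpecIso (CommRingCat.of B)).inv := by
  rw [sp, Scheme.Hom.comp_appTop, isoSpec_inv_appTop]
  exact (Scheme.ΓSpecIso_inv_naturality (CommRingCat.ofHom φ)).symm

theorem sp_appTop_apply {X : Scheme.{u}} [IsAffine X] {B : Type u} [CommRing B] (φ : Γ(X, ⊤) →+* B)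
    (a : Γ(X, ⊤)) : (sp φ).appTop a = (Scheme.ΓSpecIso (CommRingCat.of B)).inv (φ a) := by
  rw [sp_appTop]
  rfl

theorem factor_iff {X W : Scheme.{u}} [IsAffine X] {B : Type u} [CommRing B] (φ : Γ(X, ⊤) →+* B) (g : W ⟶ X) :
    (∃ k, k ≫ sp φ = g) ↔ ∃ ψ : B →+* Γ(W, ⊤), ψ.comp φ = g.appTop.hom := by
  constructor
  · rintro ⟨k, rfl⟩
    refine ⟨((Scheme.ΓSpecIso (CommRingCat.of B)).inv ≫ k.appTop).hom, ?_⟩
    rw [Scheme.Hom.comp_appTop, sp_appTop]
    rfl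
  · rintro ⟨ψ, hψ⟩
    refine ⟨W.toSpecΓ ≫ Spec.map (CommRingCat.ofHom ψ), ?_⟩
    have h1 : CommRingCat.ofHom φ ≫ CommRingCat.ofHom ψ = g.appTop := by
      ext1
      exact hψ
    rw [sp, Category.assoc, ← Spec.map_comp_assoc, h1, ← Scheme.toSpecΓ_naturality_assoc, ← Scheme.isoSpec_hom,
      Iso.hom_inv_id, Category.comp_id]

variable {S : Scheme.{u}}

theorem isSheafFor_sp (p : ℕ) [Fact p.Prime] (hS : (p : Γ(S, ⊤)) = 0) (Y : Over S) [IsAffine Y.left]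
    {B C D : Type u} [CommRing B] [CommRing C] [CommRing D] (φ : Γ(Y.left, ⊤) →+* B) (ψ : Γ(Y.left, ⊤) →+* C)
    (α : B →+* D) (β : C →+* D) (hc : α.comp φ = β.comp ψ)
    (hlift : ∀ (b : B) (c : C), α b = β c → ∃ a, φ a = b ∧ ψ a = c)
    (N : ℕ) (hN : ∀ k, φ k = 0 → ψ k = 0 → k ^ N = 0) :
    Presieve.IsSheafFor (HTop.frobLimPresheaf p S) (ov Y (two (sp φ) (sp ψ))).arrows := by
  rw [ov_two]
  have hw : Spec.map (CommRingCat.ofHom β) ≫ sp ψ = Spec.map (CommRingCat.ofHom α) ≫ sp φ := by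
    rw [sp, sp, ← Spec.map_comp_assoc, ← Spec.map_comp_assoc, ← CommRingCat.ofHom_comp, ← CommRingCat.ofHom_comp, hc]
  let e' : Over.mk (Spec.map (CommRingCat.ofHom β) ≫ sp ψ ≫ Y.hom) ⟶ Over.mk (sp ψ ≫ Y.hom) :=
    Over.homMk (Spec.map (CommRingCat.ofHom β)) rfl
  let π' : Over.mk (Spec.map (CommRingCat.ofHom β) ≫ sp ψ ≫ Y.hom) ⟶ Over.mk (sp φ ≫ Y.hom) :=
    Over.homMk (Spec.map (CommRingCat.ofHom α)) (by
      change Spec.map (CommRingCat.ofHom α) ≫ sp φ ≫ Y.hom = Spec.map (CommRingCat.ofHom β) ≫ sp ψ ≫ Y.hom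
      rw [← Category.assoc, ← hw, Category.assoc])
  refine isSheafFor_two (e := e') (π := π') ?_ ?_
  · ext1
    exact hw
  · intro t s' hts
    have hinj : ∀ (R : CommRingCat.{u}), Function.Injective (Scheme.ΓSpecIso R).inv := fun R =>
      (ConcreteCategory.bijective_of_isIso (Scheme.ΓSpecIso R).inv).1
    have hsurj : ∀ (R : CommRingCat.{u}), Function.Surjective (Scheme.ΓSpecIso R).inv := fun R =>
      (ConcreteCategory.bijective_of_isIso (Scheme.ΓSpecIso R).inv).2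
    have hα : ∀ b : B, (Spec.map (CommRingCat.ofHom α)).appTop ((Scheme.ΓSpecIso (CommRingCat.of B)).inv b) =
        (Scheme.ΓSpecIso (CommRingCat.of D)).inv (α b) := fun b =>
      (congrArg (fun m => (CommRingCat.Hom.hom m) b) (Scheme.ΓSpecIso_inv_naturality (CommRingCat.ofHom α))).symm
    have hβ : ∀ b : C, (Spec.map (CommRingCat.ofHom β)).appTop ((Scheme.ΓSpecIso (CommRingCat.of C)).inv b) =
        (Scheme.ΓSpecIso (CommRingCat.of D)).inv (β b) := fun b =>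
      (congrArg (fun m => (CommRingCat.Hom.hom m) b) (Scheme.ΓSpecIso_inv_naturality (CommRingCat.ofHom β))).symm
    have hY : (p : Γ(Y.left, ⊤)) = 0 := FrobSheaf.natCast_eq_zero p S hS Y
    have hex := LimAlg.existsUnique_seq p hY (sp φ).appTop.hom (sp ψ).appTop.hom
      (Spec.map (CommRingCat.ofHom α)).appTop.hom (Spec.map (CommRingCat.ofHom β)).appTop.hom (by
        intro b c hbc
        obtain ⟨b, rfl⟩ := hsurj _ b
        obtain ⟨c, rfl⟩ := hsurj _ c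
        have h1 : α b = β c := by
          apply hinj (CommRingCat.of D)
          rw [← hα, ← hβ]
          exact hbc
        obtain ⟨a, ha, ha'⟩ := hlift b c h1
        refine ⟨a, ?_, ?_⟩
        · exact (sp_appTop_apply φ a).trans (by rw [ha])
        · exact (sp_appTop_apply ψ a).trans (by rw [ha'])) N (by
        intro k h1 h2
        refine hN k ?_ ?_
        · apply hinj (CommRingCat.of B)
          exact ((sp_appTop_apply φ k).symm.trans h1).trans (map_zero _).symm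
        · apply hinj (CommRingCat.of C)
          exact ((sp_appTop_apply ψ k).symm.trans h2).trans (map_zero _).symm) t.1 s'.1 t.2 s'.2
      (fun n => congrArg (fun z : HTop.FrobLimSections p _ => z.1 n) hts)
    obtain ⟨a, ⟨h1, h2, h3⟩, huniq⟩ := hex
    refine ⟨⟨a, h1⟩, ⟨?_, ?_⟩, ?_⟩
    · apply HTop.FrobLimSections.ext
      exact h2
    · apply HTop.FrobLimSections.ext
      exact h3
    · rintro s ⟨e1, e2⟩
      apply Subtype.ext
      exact huniq s.1 ⟨s.2, fun n => congrArg (fun z : HTop.FrobLimSections p _ => z.1 n) e1,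
        fun n => congrArg (fun z : HTop.FrobLimSections p _ => z.1 n) e2⟩

/-- Arrows on which one of the two functions divides the other. -/
def chart (X : Scheme.{u}) (f₁ f₂ : Γ(X, ⊤)) : Sieve X where
  arrows W g := (∃ t : Γ(W, ⊤), g.appTop.hom f₂ = g.appTop.hom f₁ * t) ∨
    (∃ t : Γ(W, ⊤), g.appTop.hom f₁ = g.appTop.hom f₂ * t)
  downward_closed := by
    rintro W W' g (⟨t, ht⟩ | ⟨t, ht⟩) h
    · refine Or.inl ⟨h.appTop.hom t, ?_⟩
      rw [Scheme.Hom.comp_appTop, CommRingCat.hom_comp, RingHom.comp_apply, RingHom.comp_apply, ht, map_mul]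
    · refine Or.inr ⟨h.appTop.hom t, ?_⟩
      rw [Scheme.Hom.comp_appTop, CommRingCat.hom_comp, RingHom.comp_apply, RingHom.comp_apply, ht, map_mul]

theorem chart_pullback {X Y : Scheme.{u}} (h : Y ⟶ X) (f₁ f₂ : Γ(X, ⊤)) :
    (chart X f₁ f₂).pullback h = chart Y (h.appTop.hom f₁) (h.appTop.hom f₂) := by
  ext W g
  change ((∃ t : Γ(W, ⊤), (g ≫ h).appTop.hom f₂ = (g ≫ h).appTop.hom f₁ * t) ∨
    (∃ t : Γ(W, ⊤), (g ≫ h).appTop.hom f₁ = (g ≫ h).appTop.hom f₂ * t)) ↔ _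
  rw [Scheme.Hom.comp_appTop]
  exact Iff.rfl

open Polynomial in
/-- The ring of a chart. -/
abbrev Ch (A : Type u) [CommRing A] (f₁ f₂ : A) : Type u := A[X] ⧸ Ideal.span {C f₂ - C f₁ * X}

open Polynomial in
theorem factor_chart_iff {X W : Scheme.{u}} [IsAffine X] (f₁ f₂ : Γ(X, ⊤)) (g : W ⟶ X) :
    (∃ k, k ≫ sp (algebraMap Γ(X, ⊤) (Ch Γ(X, ⊤) f₁ f₂)) = g) ↔
      ∃ t : Γ(W, ⊤), g.appTop.hom f₂ = g.appTop.hom f₁ * t := by
  rw [factor_iff]
  constructor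
  · rintro ⟨ψ, hψ⟩
    refine ⟨ψ (Ideal.Quotient.mk _ Polynomial.X), ?_⟩
    rw [← hψ, RingHom.comp_apply, RingHom.comp_apply, ← map_mul]
    congr 1
    have h1 : Ideal.Quotient.mk (Ideal.span {C f₂ - C f₁ * Polynomial.X}) (C f₂ - C f₁ * Polynomial.X) = 0 :=
      Ideal.Quotient.eq_zero_iff_mem.2 (Ideal.mem_span_singleton_self _)
    rw [map_sub, map_mul, sub_eq_zero] at h1
    exact h1
  · rintro ⟨t, ht⟩
    refine ⟨Ideal.Quotient.lift _ (Polynomial.eval₂RingHom g.appTop.hom t) ?_, ?_⟩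
    · intro a ha
      obtain ⟨c, rfl⟩ := Ideal.mem_span_singleton'.1 ha
      rw [map_mul]
      have : (Polynomial.eval₂RingHom g.appTop.hom t) (C f₂ - C f₁ * Polynomial.X) = 0 := by
        rw [map_sub, map_mul, coe_eval₂RingHom, eval₂_C, eval₂_C, eval₂_X, ht, sub_self]
      rw [this, mul_zero]
    · ext a
      change (Polynomial.eval₂RingHom g.appTop.hom t) (C a) = _
      rw [coe_eval₂RingHom, eval₂_C]

theorem chart_eq_two (X : Scheme.{u}) [IsAffine X] (f₁ f₂ : Γ(X, ⊤)) :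
    chart X f₁ f₂ = two (sp (algebraMap Γ(X, ⊤) (Ch Γ(X, ⊤) f₁ f₂))) (sp (algebraMap Γ(X, ⊤) (Ch Γ(X, ⊤) f₂ f₁))) := by
  ext W g
  change _ ↔ (∃ k, k ≫ sp (algebraMap Γ(X, ⊤) (Ch Γ(X, ⊤) f₁ f₂)) = g) ∨
    (∃ k, k ≫ sp (algebraMap Γ(X, ⊤) (Ch Γ(X, ⊤) f₂ f₁)) = g)
  rw [factor_chart_iff, factor_chart_iff]
  exact Iff.rfl

open Polynomial LaurentPolynomial in
theorem isSheafFor_chart (p : ℕ) [Fact p.Prime] (hS : (p : Γ(S, ⊤)) = 0) (Y : Over S) [IsAffine Y.left]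
    (f₁ f₂ : Γ(Y.left, ⊤)) :
    Presieve.IsSheafFor (HTop.frobLimPresheaf p S) (ov Y (chart Y.left f₁ f₂)).arrows := by
  rw [chart_eq_two]
  let A := Γ(Y.left, ⊤)
  let I₁₂ : Ideal A[T;T⁻¹] := Ideal.span {(LaurentPolynomial.C f₂ - LaurentPolynomial.C f₁ * T 1 : A[T;T⁻¹])}
  have hα : ∀ a ∈ Ideal.span {Polynomial.C f₂ - Polynomial.C f₁ * X},
      ((Ideal.Quotient.mk I₁₂).comp (toLaurent (R := A))) a = 0 := by
    intro a ha
    obtain ⟨c, rfl⟩ := Ideal.mem_span_singleton'.1 ha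
    rw [RingHom.comp_apply, Ideal.Quotient.eq_zero_iff_mem, map_mul]
    refine Ideal.mul_mem_left _ _ ?_
    simp only [map_sub, map_mul, Polynomial.toLaurent_C, Polynomial.toLaurent_X]
    exact Ideal.mem_span_singleton_self _
  have hβ : ∀ a ∈ Ideal.span {Polynomial.C f₁ - Polynomial.C f₂ * X},
      ((Ideal.Quotient.mk I₁₂).comp ((invert (R := A)).toRingHom.comp (toLaurent (R := A)))) a = 0 := by
    intro a ha
    obtain ⟨c, rfl⟩ := Ideal.mem_span_singleton'.1 ha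
    rw [RingHom.comp_apply, Ideal.Quotient.eq_zero_iff_mem, map_mul]
    refine Ideal.mul_mem_left _ _ ?_
    change invert (toLaurent (Polynomial.C f₁ - Polynomial.C f₂ * X)) ∈ I₁₂
    simp only [map_sub, map_mul, Polynomial.toLaurent_C, Polynomial.toLaurent_X, invert_C, invert_T]
    have hT : (T (-1) : A[T;T⁻¹]) * T 1 = 1 := by rw [← T_add]; simp
    refine Ideal.mem_span_singleton'.2 ⟨-T (-1), ?_⟩
    linear_combination LaurentPolynomial.C f₁ * hT
  refine isSheafFor_sp p hS Y _ _ (Ideal.Quotient.lift _ _ hα) (Ideal.Quotient.lift _ _ hβ) ?_ ?_ 2 ?_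
  · ext a
    change Ideal.Quotient.lift _ _ hα (Ideal.Quotient.mk _ (Polynomial.C a)) =
      Ideal.Quotient.lift _ _ hβ (Ideal.Quotient.mk _ (Polynomial.C a))
    rw [Ideal.Quotient.lift_mk, Ideal.Quotient.lift_mk]
    change Ideal.Quotient.mk I₁₂ (toLaurent (Polynomial.C a)) =
      Ideal.Quotient.mk I₁₂ (invert (toLaurent (Polynomial.C a)))
    rw [Polynomial.toLaurent_C, invert_C]
  · intro b c hbc
    obtain ⟨g, rfl⟩ := Ideal.Quotient.mk_surjective b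
    obtain ⟨h, rfl⟩ := Ideal.Quotient.mk_surjective c
    rw [Ideal.Quotient.lift_mk, Ideal.Quotient.lift_mk] at hbc
    have h1 : toLaurent g - invert (toLaurent h) ∈ I₁₂ := Ideal.Quotient.eq.1 hbc
    obtain ⟨a, ha, hb⟩ := LimAlg.exists_lift f₁ f₂ g h h1
    exact ⟨a, (Ideal.Quotient.eq.2 ha).symm, (Ideal.Quotient.eq.2 hb).symm⟩
  · intro k h1 h2
    exact LimAlg.sq_eq_zero f₁ f₂ k (Ideal.Quotient.eq_zero_iff_mem.1 h1) (Ideal.Quotient.eq_zero_iff_mem.1 h2)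

theorem chart_mem (p : ℕ) [Fact p.Prime] (hS : (p : Γ(S, ⊤)) = 0) (X : Scheme.{u}) (f₁ f₂ : Γ(X, ⊤)) :
    chart X f₁ f₂ ∈ shTop (HTop.frobLimPresheaf p S) X := by
  intro Y g
  refine AffLoc.isSheafFor_of_affine (isSheaf_zariski p) _ fun T hT k => ?_
  rw [ov_pullback, ← Sieve.pullback_comp, chart_pullback]
  exact isSheafFor_chart p hS T _ _

/-- Arrows on which `f` or the ideal `J` vanishes. -/
def cpair (X : Scheme.{u}) (f : Γ(X, ⊤)) (J : Ideal Γ(X, ⊤)) : Sieve X where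
  arrows W g := g.appTop.hom f = 0 ∨ ∀ j ∈ J, g.appTop.hom j = 0
  downward_closed := by
    rintro W W' g (h | h) k
    · refine Or.inl ?_
      rw [Scheme.Hom.comp_appTop, CommRingCat.hom_comp, RingHom.comp_apply, h, map_zero]
    · refine Or.inr fun j hj => ?_
      rw [Scheme.Hom.comp_appTop, CommRingCat.hom_comp, RingHom.comp_apply, h j hj, map_zero]

theorem cpair_pullback {X Y : Scheme.{u}} (h : Y ⟶ X) (f : Γ(X, ⊤)) (J : Ideal Γ(X, ⊤)) :
    (cpair X f J).pullback h = cpair Y (h.appTop.hom f) (J.map h.appTop.hom) := by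
  ext W g
  change ((g ≫ h).appTop.hom f = 0 ∨ ∀ j ∈ J, (g ≫ h).appTop.hom j = 0) ↔
    (g.appTop.hom (h.appTop.hom f) = 0 ∨ ∀ j ∈ J.map h.appTop.hom, g.appTop.hom j = 0)
  rw [Scheme.Hom.comp_appTop]
  refine or_congr Iff.rfl ?_
  constructor
  · intro H
    have h1 : J.map h.appTop.hom ≤ RingHom.ker g.appTop.hom := Ideal.map_le_iff_le_comap.2 fun j hj => H j hj
    exact fun j hj => h1 hj
  · intro H j hj
    exact H _ (Ideal.mem_map_of_mem _ hj)

theorem factor_quot_iff {X W : Scheme.{u}} [IsAffine X] (J : Ideal Γ(X, ⊤)) (g : W ⟶ X) :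
    (∃ k, k ≫ sp (Ideal.Quotient.mk J) = g) ↔ ∀ j ∈ J, g.appTop.hom j = 0 := by
  rw [factor_iff]
  constructor
  · rintro ⟨ψ, hψ⟩ j hj
    rw [← hψ, RingHom.comp_apply, Ideal.Quotient.eq_zero_iff_mem.2 hj, map_zero]
  · intro h
    exact ⟨Ideal.Quotient.lift J _ h, Ideal.Quotient.lift_comp_mk _ _ _⟩

theorem cpair_eq_two (X : Scheme.{u}) [IsAffine X] (f : Γ(X, ⊤)) (J : Ideal Γ(X, ⊤)) :
    cpair X f J = two (sp (Ideal.Quotient.mk (Ideal.span {f}))) (sp (Ideal.Quotient.mk J)) := by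
  ext W g
  change _ ↔ (∃ k, k ≫ sp (Ideal.Quotient.mk (Ideal.span {f})) = g) ∨ (∃ k, k ≫ sp (Ideal.Quotient.mk J) = g)
  rw [factor_quot_iff, factor_quot_iff]
  refine or_congr ?_ Iff.rfl
  constructor
  · intro h j hj
    obtain ⟨c, rfl⟩ := Ideal.mem_span_singleton'.1 hj
    rw [map_mul, h, mul_zero]
  · intro h
    exact h f (Ideal.mem_span_singleton_self f)

theorem isSheafFor_cpair (p : ℕ) [Fact p.Prime] (hS : (p : Γ(S, ⊤)) = 0) (Y : Over S) [IsAffine Y.left]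
    (f : Γ(Y.left, ⊤)) (J : Ideal Γ(Y.left, ⊤)) (n : ℕ) (hJ : ∀ j ∈ J, f ^ n * j = 0) :
    Presieve.IsSheafFor (HTop.frobLimPresheaf p S) (ov Y (cpair Y.left f J)).arrows := by
  rw [cpair_eq_two]
  refine isSheafFor_sp p hS Y _ _ (Ideal.Quotient.factor (le_sup_left : Ideal.span {f} ≤ Ideal.span {f} ⊔ J))
    (Ideal.Quotient.factor (le_sup_right : J ≤ Ideal.span {f} ⊔ J)) ?_ ?_ (n + 1) ?_
  · ext a
    rfl
  · intro b c hbc
    obtain ⟨b, rfl⟩ := Ideal.Quotient.mk_surjective b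
    obtain ⟨c, rfl⟩ := Ideal.Quotient.mk_surjective c
    rw [Ideal.Quotient.factor_mk, Ideal.Quotient.factor_mk] at hbc
    obtain ⟨a, h1, h2⟩ := LimAlg.exists_lift_closed _ _ b c (Ideal.Quotient.eq.1 hbc)
    exact ⟨a, (Ideal.Quotient.eq.2 h1).symm, (Ideal.Quotient.eq.2 h2).symm⟩
  · intro k h1 h2
    exact LimAlg.pow_eq_zero_closed f J n hJ k (Ideal.Quotient.eq_zero_iff_mem.1 h1)
      (Ideal.Quotient.eq_zero_iff_mem.1 h2)

theorem cpair_mem (p : ℕ) [Fact p.Prime] (hS : (p : Γ(S, ⊤)) = 0) (X : Scheme.{u}) (f : Γ(X, ⊤))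
    (J : Ideal Γ(X, ⊤)) (n : ℕ) (hJ : ∀ j ∈ J, f ^ n * j = 0) :
    cpair X f J ∈ shTop (HTop.frobLimPresheaf p S) X := by
  intro Y g
  refine AffLoc.isSheafFor_of_affine (isSheaf_zariski p) _ fun T hT k => ?_
  rw [ov_pullback, ← Sieve.pullback_comp, cpair_pullback]
  refine isSheafFor_cpair p hS T _ _ n fun j hj => ?_
  have h1 : J.map (k.left ≫ g).appTop.hom ≤ LinearMap.ker (LinearMap.mulLeft Γ(T.left, ⊤)
      (((k.left ≫ g).appTop.hom f) ^ n)) := by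
    refine Ideal.map_le_of_le_comap fun a ha => ?_
    change ((k.left ≫ g).appTop.hom f) ^ n * (k.left ≫ g).appTop.hom a = 0
    rw [← map_pow, ← map_mul, hJ a ha, map_zero]
  exact h1 hj

end K347.LimCov
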