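import Groth.Agent.HTop.K347.LimMem
import Groth.Agent.HTop.K347.CovN

/-!
# The inverse limit of the functions along the Frobenius is an h sheaf
-/

set_option autoImplicit false
universe w u

open CategoryTheory CategoryTheory.Limits AlgebraicGeometry HTop Opposite

namespace K347.LimMain

open K343.Topo K347.LimFpqc K347.LimCov K347.CovD

theorem isSheafFor (p : ℕ) [Fact p.Prime] (S : Scheme.{u}) (hS : (p : Γ(S, ⊤)) = 0) {U V : Over S} (f : V ⟶ U)
    (hU : IsAffine U.left) (h1 : IsProper f.left) (h2 : Surjective f.left)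
    (h3 : LocallyOfFinitePresentation f.left) :
    Presieve.IsSheafFor (HTop.frobLimPresheaf p S) (Presieve.singleton f) := by
  refine isSheafFor_of_mem_shTop f ?_
  have hZ : Scheme.zariskiTopology ≤ shTop (HTop.frobLimPresheaf p S) := zariski_le_shTop p
  refine CovN.generate_mem' hZ ?_ ?_ f.left
  · intro E Z X' X e π b i hX hsq
    exact LimMem.two_mem_of_isLocallyNoetherian hZ (fun X f₁ f₂ => chart_mem p hS X f₁ f₂)
      (fun X f J n hJ => cpair_mem p hS X f J n hJ) hX hsq
  · intro V' U' f' hU' g1 g2 g3 g4
    exact fpqc_le_shTop p _ (Precoverage.generate_mem_toGrothendieck f'.singleton_mem_fpqcPrecoverage)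

end K347.LimMain
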