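import Groth.Agent.HTop.K347.LimCov

/-!
# Almost blow up squares over Noetherian schemes are generated by the two families of coverings
-/

set_option autoImplicit false
universe u

open CategoryTheory CategoryTheory.Limits AlgebraicGeometry HTop Opposite

namespace K347.LimMem

open K347.Two K347.CovD K343.Topo K347.LimCov

variable {L : GrothendieckTopology Scheme.{u}}

theorem map_ofList_eq_bot {A B : Type*} [CommRing A] [CommRing B] (φ : A →+* B) (l : List A)
    (h : ∀ a ∈ l, φ a = 0) : (Ideal.ofList l).map φ = ⊥ := by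
  rw [eq_bot_iff, Ideal.map_le_iff_le_comap]
  unfold Ideal.ofList
  rw [Ideal.span_le]
  intro a ha
  exact h a ha

theorem chart_step {X X' : Scheme.{u}} (s : X' ⟶ X) (R : Sieve X) (f f' : Γ(X, ⊤)) (l' l : List Γ(X, ⊤))
    (hl : Ideal.ofList l = Ideal.span {f, f'} ⊔ Ideal.ofList l')
    (hmem : ∀ a ∈ l, a = f ∨ a = f' ∨ a ∈ l')
    (h1 : ∀ (W : Scheme.{u}) (g : W ⟶ X), (∀ a ∈ l, g.appTop.hom a = 0) → R g)
    (h2 : ∀ (T : Scheme.{u}) (g : T ⟶ X) (a : Γ(T, ⊤)), IsAffine T →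
      (Ideal.ofList l).map g.appTop.hom = Ideal.span {a} → a ∈ nonZeroDivisors Γ(T, ⊤) → R g)
    (ht : ∀ {W : Scheme.{u}} (g : W ⟶ X'), ∃ t : Γ(W, ⊤), (g ≫ s).appTop.hom f' = (g ≫ s).appTop.hom f * t)
    (ih : ∀ (l'' : List Γ(X', ⊤)) (_ : l''.length = l'.length + 1) (R' : Sieve X')
      (_ : ∀ (W : Scheme.{u}) (g : W ⟶ X'), (∀ a ∈ l'', g.appTop.hom a = 0) → R' g)
      (_ : ∀ (T : Scheme.{u}) (g : T ⟶ X') (a : Γ(T, ⊤)), IsAffine T →
        (Ideal.ofList l'').map g.appTop.hom = Ideal.span {a} → a ∈ nonZeroDivisors Γ(T, ⊤) → R' g), R' ∈ L X') :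
    R.pullback s ∈ L X' := by
  have hcomp : ∀ {W : Scheme.{u}} (g : W ⟶ X') (a : Γ(X, ⊤)),
      g.appTop.hom (s.appTop.hom a) = (g ≫ s).appTop.hom a := by
    intro W g a
    rw [Scheme.Hom.comp_appTop]
    rfl
  refine ih (s.appTop.hom f :: l'.map s.appTop.hom) (by simp) _ ?_ ?_
  · intro W g hg
    refine h1 W (g ≫ s) fun a ha => ?_
    have hf : (g ≫ s).appTop.hom f = 0 := by
      rw [← hcomp]
      exact hg _ (List.mem_cons_self ..)
    rcases hmem a ha with rfl | rfl | h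
    · exact hf
    · obtain ⟨t, ht⟩ := ht g
      rw [ht, hf, zero_mul]
    · rw [← hcomp]
      exact hg _ (List.mem_cons_of_mem _ (List.mem_map_of_mem h))
  · intro T g a hT ha hreg
    refine h2 T (g ≫ s) a hT ?_ hreg
    rw [← ha, hl, Ideal.map_sup, Ideal.ofList_cons, Ideal.map_sup, Ideal.map_ofList, Ideal.map_ofList,
      List.map_map]
    congr 1
    rw [Ideal.map_span, Ideal.map_span, Set.image_pair, Set.image_singleton, hcomp]
    obtain ⟨t, ht⟩ := ht g
    rw [ht]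
    refine le_antisymm ?_ (Ideal.span_mono (by simp))
    rw [Ideal.span_le]
    rintro _ (rfl | rfl)
    · exact Ideal.mem_span_singleton_self _
    · exact Ideal.mul_mem_right _ _ (Ideal.mem_span_singleton_self _)

/-- **Induction on the number of generators**: a sieve on a Noetherian affine scheme containing the closed subscheme
`V(I)` and the affine schemes on which `I` becomes an effective Cartier divisor is covering. -/
theorem mem_of_list
    (hch : ∀ (X : Scheme.{u}) (f₁ f₂ : Γ(X, ⊤)), chart X f₁ f₂ ∈ L X)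
    (hcp : ∀ (X : Scheme.{u}) (f : Γ(X, ⊤)) (J : Ideal Γ(X, ⊤)) (n : ℕ), (∀ j ∈ J, f ^ n * j = 0) →
      cpair X f J ∈ L X)
    (n : ℕ) : ∀ (X : Scheme.{u}) (_ : IsAffine X) (_ : IsLocallyNoetherian X) (l : List Γ(X, ⊤)) (_ : l.length = n)
      (R : Sieve X)
      (_ : ∀ (W : Scheme.{u}) (g : W ⟶ X), (∀ a ∈ l, g.appTop.hom a = 0) → R g)
      (_ : ∀ (T : Scheme.{u}) (g : T ⟶ X) (a : Γ(T, ⊤)), IsAffine T →
        (Ideal.ofList l).map g.appTop.hom = Ideal.span {a} → a ∈ nonZeroDivisors Γ(T, ⊤) → R g), R ∈ L X := by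
  induction n using Nat.strong_induction_on with
  | _ n ih =>
  intro X hX hN l hl R h1 h2
  match l with
  | [] =>
    have : R = ⊤ := by
      ext W g
      exact ⟨fun _ => trivial, fun _ => h1 W g fun a ha => by simp at ha⟩
    rw [this]
    exact L.top_mem _
  | [f] =>
    have hN : IsNoetherianRing Γ(X, ⊤) := IsLocallyNoetherian.component_noetherian ⟨⊤, isAffineOpen_top X⟩
    obtain ⟨m, J, hJ, hJ'⟩ := LimAlg.exists_torsion f
    refine L.superset_covering ?_ (hcp X f J m hJ)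
    rintro W g (hg | hg)
    · exact h1 W g fun a ha => by rw [List.mem_singleton.1 ha, hg]
    · obtain ⟨k, rfl⟩ := (factor_quot_iff J g).2 hg
      refine R.downward_closed ?_ k
      refine h2 _ _ ((sp (Ideal.Quotient.mk J)).appTop.hom f) inferInstance ?_ ?_
      · rw [Ideal.map_ofList]
        simp
      · have hinj := (ConcreteCategory.bijective_of_isIso (Scheme.ΓSpecIso (CommRingCat.of (Γ(X, ⊤) ⧸ J))).inv)
        rw [mem_nonZeroDivisors_iff_right]
        intro x hx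
        obtain ⟨x, rfl⟩ := hinj.2 x
        obtain ⟨x, rfl⟩ := Ideal.Quotient.mk_surjective x
        have h3 : (sp (Ideal.Quotient.mk J)).appTop.hom f =
          (Scheme.ΓSpecIso (CommRingCat.of (Γ(X, ⊤) ⧸ J))).inv (Ideal.Quotient.mk J f) := sp_appTop_apply _ f
        rw [h3] at hx
        have h4 : (Scheme.ΓSpecIso (CommRingCat.of (Γ(X, ⊤) ⧸ J))).inv
            (Ideal.Quotient.mk J x * Ideal.Quotient.mk J f) = 0 := (map_mul _ _ _).trans hx
        have h5 : Ideal.Quotient.mk J x * Ideal.Quotient.mk J f = 0 := hinj.1 (h4.trans (map_zero _).symm)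
        rw [← map_mul, Ideal.Quotient.eq_zero_iff_mem, mul_comm] at h5
        have h6 : Ideal.Quotient.mk J x = 0 := Ideal.Quotient.eq_zero_iff_mem.2 (hJ' x h5)
        rw [h6]
        exact map_zero _
  | f₁ :: f₂ :: l' =>
    have hN : IsNoetherianRing Γ(X, ⊤) := IsLocallyNoetherian.component_noetherian ⟨⊤, isAffineOpen_top X⟩
    have hsplit : Ideal.ofList (f₁ :: f₂ :: l') = Ideal.span {f₁, f₂} ⊔ Ideal.ofList l' := by
      rw [Ideal.ofList_cons, Ideal.ofList_cons, ← sup_assoc, ← Ideal.span_insert]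
    have hch' := hch X f₁ f₂
    rw [chart_eq_two] at hch'
    have hlen : l'.length + 1 < n := by
      rw [← hl, List.length_cons, List.length_cons]
      omega
    refine mem_of_two_mem hch' ?_ ?_
    · refine chart_step _ R f₁ f₂ l' (f₁ :: f₂ :: l') hsplit ?_ h1 h2 ?_ ?_
      · intro a ha
        simpa using ha
      · intro W g
        exact (factor_chart_iff f₁ f₂ _).1 ⟨g, rfl⟩
      · intro l'' hl'' R' a3 a4
        exact ih _ hlen _ inferInstance inferInstance l'' hl'' R' a3 a4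
    · refine chart_step _ R f₂ f₁ l' (f₁ :: f₂ :: l') (by rw [hsplit, Set.pair_comm]) ?_ h1 h2 ?_ ?_
      · intro a ha
        rcases List.mem_cons.1 ha with h | h
        · exact Or.inr (Or.inl h)
        · rcases List.mem_cons.1 h with h | h
          · exact Or.inl h
          · exact Or.inr (Or.inr h)
      · intro W g
        exact (factor_chart_iff f₂ f₁ _).1 ⟨g, rfl⟩
      · intro l'' hl'' R' a3 a4
        exact ih _ hlen _ inferInstance inferInstance l'' hl'' R' a3 a4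

theorem isEff_ofIdealTop {T : Scheme.{u}} [IsAffine T] (a : Γ(T, ⊤)) (ha : a ∈ nonZeroDivisors Γ(T, ⊤)) :
    BlowUp.IsEffCartierIdeal (Scheme.IdealSheafData.ofIdealTop (Ideal.span {a})) := by
  intro x
  refine ⟨⟨⊤, isAffineOpen_top T⟩, trivial, a, ha, ?_⟩
  rw [Scheme.IdealSheafData.ofIdealTop_ideal]
  have : T.presheaf.map (homOfLE (le_top : (⊤ : T.Opens) ≤ ⊤)).op = 𝟙 _ := by
    rw [← T.presheaf.map_id]
    rfl
  rw [this]
  exact Ideal.map_id _

theorem ofIdealTop_bot_le (W : Scheme.{u}) : Scheme.IdealSheafData.ofIdealTop (⊥ : Ideal Γ(W, ⊤)) ≤ ⊥ := by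
  intro V
  rw [Scheme.IdealSheafData.ofIdealTop_ideal, Ideal.map_bot]
  exact bot_le

/-- Almost blow up squares over Noetherian schemes are covering. -/
theorem two_mem_of_isLocallyNoetherian (hZ : Scheme.zariskiTopology ≤ L)
    (hch : ∀ (X : Scheme.{u}) (f₁ f₂ : Γ(X, ⊤)), chart X f₁ f₂ ∈ L X)
    (hcp : ∀ (X : Scheme.{u}) (f : Γ(X, ⊤)) (J : Ideal Γ(X, ⊤)) (n : ℕ), (∀ j ∈ J, f ^ n * j = 0) →
      cpair X f J ∈ L X)
    {E Z X' X : Scheme.{u}} {e : E ⟶ X'} {π : E ⟶ Z} {b : X' ⟶ X} {i : Z ⟶ X} (hX : IsLocallyNoetherian X)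
    (hsq : IsAlmostBlowUpSquare e π b i) : two i b ∈ L X := by
  have hcl := hsq.isClosedImmersion
  refine mem_of_zariski_local L hZ _ fun x => ?_
  obtain ⟨U, hU, hxU⟩ : ∃ U : X.Opens, IsAffineOpen U ∧ x ∈ U := by
    obtain ⟨_, ⟨U, hU, rfl⟩, hxU, -⟩ := X.isBasis_affineOpens.exists_subset_of_mem_open (Set.mem_univ x) isOpen_univ
    exact ⟨U, hU, hxU⟩
  refine ⟨_, Scheme.Opens.ι U, inferInstance, by rwa [Scheme.Opens.range_ι], ?_⟩
  have : IsAffine (Scheme.Opens.toScheme U) := hU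
  have hLN : IsLocallyNoetherian (Scheme.Opens.toScheme U) := isLocallyNoetherian_of_isOpenImmersion U.ι
  have hN : IsNoetherianRing Γ(Scheme.Opens.toScheme U, ⊤) :=
    IsLocallyNoetherian.component_noetherian ⟨⊤, isAffineOpen_top _⟩
  obtain ⟨s, hs⟩ : ((i.ker.comap U.ι).ideal ⟨⊤, isAffineOpen_top _⟩).FG := IsNoetherian.noetherian _
  have h0 : Ideal.ofList s.toList = (i.ker.comap U.ι).ideal ⟨⊤, isAffineOpen_top _⟩ := by
    rw [← hs]
    unfold Ideal.ofList
    congr 1
    ext a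
    simp
  have hi : i.ker.comap U.ι = Scheme.IdealSheafData.ofIdealTop (Ideal.ofList s.toList) := by
    rw [h0]
    exact (Scheme.IdealSheafData.equivOfIsAffine.symm_apply_apply _).symm
  have hcomap : ∀ {W : Scheme.{u}} (g : W ⟶ Scheme.Opens.toScheme U), i.ker.comap (g ≫ U.ι) =
      Scheme.IdealSheafData.ofIdealTop ((Ideal.ofList s.toList).map g.appTop.hom) := by
    intro W g
    rw [Scheme.IdealSheafData.comap_comp, hi, Groth.Agent.CurvesC.BlowUpCharts.comap_ofIdealTop]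
  refine mem_of_list hch hcp _ _ inferInstance hLN s.toList rfl _ ?_ ?_
  · intro W g hg
    have h3 : (Ideal.ofList s.toList).map g.appTop.hom = ⊥ := map_ofList_eq_bot _ _ hg
    have h4 : i.ker.comap (g ≫ U.ι) ≤ ⊥ := by
      rw [hcomap g, h3]
      exact ofIdealTop_bot_le W
    have h5 : i.ker ≤ (g ≫ U.ι).ker :=
      (Scheme.IdealSheafData.le_map_iff_comap_le.2 h4).trans (Scheme.IdealSheafData.map_bot (g ≫ U.ι)).le
    exact Or.inl ⟨IsClosedImmersion.lift i (g ≫ U.ι) h5, IsClosedImmersion.lift_fac _ _ _⟩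
  · intro T g a hT ha hreg
    obtain ⟨k, hk, -⟩ := hsq.isBlowUp.2 T (g ≫ U.ι) (by
      rw [hcomap, ha]
      exact isEff_ofIdealTop a hreg)
    exact Or.inr ⟨k ≫ (supportedOn (i.ker.comap b)).subschemeι, by rw [Category.assoc, hk]⟩

end K347.LimMem
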