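import Groth.Agent.HTop.K347.SubInt
import Groth.Prelude.Def_W4c1hilbchowincPtFun
import Mathlib.AlgebraicGeometry.Properties
import Mathlib.RingTheory.DiscreteValuationRing.Basic
import Mathlib.RingTheory.IntegralClosure.IntegrallyClosed

/-!
# Pointwise functions: basic lemmas
-/

set_option autoImplicit false

universe u

open CategoryTheory AlgebraicGeometry W4c1hilbchowinc

namespace K347.PtFunBasic

variable {X Y : Scheme.{u}}

/-- On a reduced scheme, sections are determined by their values. -/
theorem ext_of_evaluation [IsReduced X] {s t : Γ(X, ⊤)}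
    (h : ∀ x : X, X.Γevaluation x s = X.Γevaluation x t) : s = t := by
  rw [← sub_eq_zero]
  apply eq_zero_of_basicOpen_eq_bot
  rw [Scheme.basicOpen_eq_bot_iff_forall_evaluation_eq_zero]
  intro x
  have := h x.1
  rw [map_sub, sub_eq_zero]
  exact this

theorem ofSection_injective [IsReduced X] {s t : Γ(X, ⊤)}
    (h : PtFun.ofSection X s = PtFun.ofSection X t) : s = t :=
  ext_of_evaluation fun x => congrFun h x

theorem pullback_ofSection (g : Y ⟶ X) (s : Γ(X, ⊤)) :
    (PtFun.ofSection X s).pullback g = PtFun.ofSection Y (g.appTop s) := by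
  funext y
  exact Scheme.Γevaluation_naturality_apply g y s

/-- In a normal domain, `x ^ 3 = y ^ 2` forces `x = t ^ 2` and `y = t ^ 3`. -/
theorem exists_sq_cube {R : Type u} [CommRing R] [IsDomain R] [IsIntegrallyClosed R] {x y : R}
    (h : x ^ 3 = y ^ 2) : ∃ t : R, x = t ^ 2 ∧ y = t ^ 3 := by
  by_cases hx : x = 0
  · subst hx
    have hy : y = 0 := by
      rw [zero_pow three_ne_zero] at h
      exact pow_eq_zero_iff two_ne_zero |>.1 h.symm
    exact ⟨0, by simp, by simp [hy]⟩
  · let K := FractionRing R
    have hinj : Function.Injective (algebraMap R K) := IsFractionRing.injective R K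
    have hx' : algebraMap R K x ≠ 0 := by
      rwa [Ne, map_eq_zero_iff _ hinj]
    have h' : algebraMap R K x ^ 3 = algebraMap R K y ^ 2 := by rw [← map_pow, h, map_pow]
    have hsq : (algebraMap R K y / algebraMap R K x) ^ 2 = algebraMap R K x := by
      rw [div_pow, ← h', pow_succ, mul_div_assoc, mul_comm, div_mul_cancel₀ _ (pow_ne_zero 2 hx')]
    obtain ⟨t, ht⟩ := IsIntegrallyClosed.exists_algebraMap_eq_of_isIntegral_pow (R := R) (K := K)
      (x := algebraMap R K y / algebraMap R K x) two_pos (by
        rw [hsq]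
        exact isIntegral_algebraMap)
    refine ⟨t, hinj ?_, hinj ?_⟩
    · rw [map_pow, ht, hsq]
    · rw [map_pow, ht, pow_succ, hsq, mul_div_cancel₀ _ hx']

end K347.PtFunBasic
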