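import Groth.Agent.HTop.K347.PtFunVary
import Groth.Agent.Ega4C.NormalRing
import Groth.Agent.Ega4late.H541.DvrIntegral
import Mathlib.RingTheory.LocalProperties.IntegrallyClosed
import Mathlib.RingTheory.Localization.LocalizationLocalization

/-!
# Pointwise functions varying along discrete valuation rings on normal Noetherian rings
-/

set_option autoImplicit false

universe u

open CategoryTheory AlgebraicGeometry W4c1hilbchowinc

namespace K347.PtFunNormal

open PtFunEv PtFunVary

theorem varies_pullback {X Y : Scheme.{u}} {f : PtFun X} (hf : f.VariesAlongDVR) (g : Y ⟶ X) :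
    (f.pullback g).VariesAlongDVR := by
  intro R _ _ _ h
  have h1 := (isAlgebraic_pullback_iff f R (FractionRing R) (h ≫ g)).1 (hf R _)
  rw [isAlgebraic_pullback_iff _ R (FractionRing R) h]
  simp only [ev_pullback, Category.assoc]
  exact h1

/-- The domain case, values at the generic point. -/
theorem exists_generic (B : Type u) [CommRing B] [IsDomain B] [IsNoetherianRing B] [IsIntegrallyClosed B]
    (f : PtFun (Spec (CommRingCat.of B))) (hf : f.VariesAlongDVR) :
    ∃ b : B, ev f (Spec.map (CommRingCat.ofHom (algebraMap B (FractionRing B)))) =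
      algebraMap B (FractionRing B) b := by
  set F := FractionRing B with hF
  set φ := ev f (Spec.map (CommRingCat.ofHom (algebraMap B F))) with hφ
  have key : ∀ (P : Ideal B) [P.IsPrime], ∃ s : B, s ∉ P ∧ ∃ a : B, algebraMap B F s * φ = algebraMap B F a := by
    intro P _
    let A := Localization.AtPrime P
    let K := FractionRing A
    have hA : IsIntegrallyClosed A := isIntegrallyClosed_of_isLocalization A P.primeCompl
      P.primeCompl_le_nonZeroDivisors
    have hinjA : Function.Injective (algebraMap B A) :=
      IsLocalization.injective A P.primeCompl_le_nonZeroDivisors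
    have hinj : Function.Injective ((algebraMap A K).comp (algebraMap B A)) :=
      (IsFractionRing.injective A K).comp hinjA
    let σ : F →+* K := IsFractionRing.lift (A := B) (K := F) hinj
    have hσ : ∀ b, σ (algebraMap B F b) = algebraMap A K (algebraMap B A b) :=
      fun b => IsFractionRing.lift_algebraMap hinj b
    have hev : ev f (Spec.map (CommRingCat.ofHom ((algebraMap A K).comp (algebraMap B A)))) = σ φ := by
      have := ev_map f (Spec.map (CommRingCat.ofHom (algebraMap B F))) (CommRingCat.ofHom σ)
      rw [← Spec.map_comp] at this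
      refine Eq.trans ?_ this
      congr 2
      exact congrArg CommRingCat.ofHom (RingHom.ext fun r => (hσ r).symm)
    have hmem : σ φ ∈ Set.range (algebraMap A K) := by
      by_contra hcon
      obtain ⟨V, hV, hAV, -, hVφ⟩ :=
        Groth.Agent.Ega4late.H541.DvrIntegral.exists_dvr_not_mem hA hcon
      apply hVφ
      let τ : A →+* V := (algebraMap A K).codRestrict V.toSubring hAV
      obtain ⟨r, hr, -⟩ := (isAlgebraic_pullback_iff f V K
        (Spec.map (CommRingCat.ofHom (τ.comp (algebraMap B A))))).1 (hf V _)
      rw [← Spec.map_comp] at hr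
      have h1 : ev f (Spec.map (CommRingCat.ofHom (τ.comp (algebraMap B A)) ≫
          CommRingCat.ofHom (algebraMap V K))) = σ φ := hev
      rw [← h1, hr]
      exact r.2
    obtain ⟨x, hx⟩ := hmem
    obtain ⟨⟨a, s⟩, hs⟩ := IsLocalization.surj (M := P.primeCompl) x
    refine ⟨s, s.2, a, ?_⟩
    apply σ.injective
    rw [map_mul, hσ, hσ, ← hx, ← map_mul, mul_comm]
    exact congrArg _ hs
  let I : Ideal B :=
    { carrier := {s | ∃ a : B, algebraMap B F s * φ = algebraMap B F a}
      add_mem' := by
        rintro s t ⟨a, ha⟩ ⟨b, hb⟩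
        exact ⟨a + b, by rw [map_add, add_mul, ha, hb, map_add]⟩
      zero_mem' := ⟨0, by rw [map_zero, zero_mul]⟩
      smul_mem' := by
        rintro c s ⟨a, ha⟩
        exact ⟨c * a, by rw [smul_eq_mul, map_mul, mul_assoc, ha, map_mul]⟩ }
  have hI : I = ⊤ := by
    by_contra hne
    obtain ⟨P, hP, hIP⟩ := Ideal.exists_le_maximal I hne
    have := hP.isPrime
    obtain ⟨s, hs, hs'⟩ := key P
    exact hs (hIP hs')
  obtain ⟨b, hb⟩ : (1 : B) ∈ I := by
    rw [hI]
    trivial
  exact ⟨b, by rw [← hb, map_one, one_mul]⟩

/-- Two pointwise functions on the spectrum of a Noetherian domain, varying along discrete valuation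
rings, coincide as soon as they coincide at the generic point. -/
theorem eq_of_generic (B : Type u) [CommRing B] [IsDomain B] [IsNoetherianRing B]
    {f f' : PtFun (Spec (CommRingCat.of B))} (hf : f.VariesAlongDVR) (hf' : f'.VariesAlongDVR)
    (h : ev f (Spec.map (CommRingCat.ofHom (algebraMap B (FractionRing B)))) =
      ev f' (Spec.map (CommRingCat.ofHom (algebraMap B (FractionRing B))))) : f = f' := by
  funext x
  let A := Localization.AtPrime x.asIdeal
  obtain ⟨V, _, _, _, _, τ, hτ, hτl⟩ := Groth.Agent.Sga3.H818.CDvr.exists_cdvr A (⊥ : Ideal A)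
  have hinjA : Function.Injective (algebraMap B A) :=
    IsLocalization.injective A x.asIdeal.primeCompl_le_nonZeroDivisors
  let ψ : B →+* V := τ.comp (algebraMap B A)
  have hψ : Function.Injective ψ := ((RingHom.injective_iff_ker_eq_bot τ).2 hτ).comp hinjA
  let F := FractionRing B
  let K := FractionRing V
  have hinj : Function.Injective ((algebraMap V K).comp ψ) := (IsFractionRing.injective V K).comp hψ
  let σ : F →+* K := IsFractionRing.lift (A := B) (K := F) hinj
  have hσ : ∀ b, σ (algebraMap B F b) = algebraMap V K (ψ b) :=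
    fun b => IsFractionRing.lift_algebraMap hinj b
  have hev : ∀ g : PtFun (Spec (CommRingCat.of B)),
      ev g (Spec.map (CommRingCat.ofHom (algebraMap V K)) ≫ Spec.map (CommRingCat.ofHom ψ)) =
      σ (ev g (Spec.map (CommRingCat.ofHom (algebraMap B F)))) := by
    intro g
    have := ev_map g (Spec.map (CommRingCat.ofHom (algebraMap B F))) (CommRingCat.ofHom σ)
    rw [← Spec.map_comp] at this
    rw [← Spec.map_comp]
    refine Eq.trans ?_ this
    congr 2
    exact congrArg CommRingCat.ofHom (RingHom.ext fun r => (hσ r).symm)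
  obtain ⟨r, hr1, hr2⟩ := (isAlgebraic_pullback_iff f V K (Spec.map (CommRingCat.ofHom ψ))).1 (hf V _)
  obtain ⟨r', hr1', hr2'⟩ := (isAlgebraic_pullback_iff f' V K (Spec.map (CommRingCat.ofHom ψ))).1 (hf' V _)
  rw [hev] at hr1 hr1'
  have hrr : r = r' := by
    apply IsFractionRing.injective V K
    rw [← hr1, ← hr1']
    exact congrArg σ h
  refine eq_of_ev_eq (Spec.map (CommRingCat.ofHom (IsLocalRing.residue V)) ≫
    Spec.map (CommRingCat.ofHom ψ)) x ?_ (by rw [hr2, hr2', hrr])
  rw [← Spec.map_comp]
  apply PrimeSpectrum.ext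
  have h1 := map_closedPoint_asIdeal (K := IsLocalRing.ResidueField V) B ((IsLocalRing.residue V).comp ψ)
  refine Eq.trans h1 ?_
  rw [← RingHom.comap_ker, IsLocalRing.ker_residue]
  change Ideal.comap ((τ.comp (algebraMap B A))) _ = _
  rw [← Ideal.comap_comap, IsLocalRing.maximalIdeal_comap]
  exact Localization.AtPrime.under_maximalIdeal (I := x.asIdeal)

/-- The quotient of a reduced ring with finitely many minimal primes, integrally closed in its total ring
of fractions, by a minimal prime is integrally closed. -/
theorem isIntegrallyClosed_quotient (A : Type u) [CommRing A] [_root_.IsReduced A]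
    (hfin : (minimalPrimes A).Finite) [IsIntegrallyClosed A] (p : Ideal A) [p.IsPrime]
    (hp : p ∈ minimalPrimes A) : IsIntegrallyClosed (A ⧸ p) := by
  obtain ⟨e, hee, hep, heq⟩ := Groth.Agent.Ega4C.NormalRing.exists_idempotent A hfin p hp
  have hpe : p = Ideal.span {1 - (1 - e)} := by
    rw [sub_sub_cancel]
    refine le_antisymm (fun a ha => ?_) ((Ideal.span_singleton_le_iff_mem _).2 hep)
    have h0 : (1 - e) * a = 0 := by
      have h1 : (1 - e) * a ∈ sInf (minimalPrimes A) := by
        rw [Ideal.mem_sInf]
        intro q hq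
        by_cases hqp : q = p
        · rw [hqp]
          exact p.mul_mem_left _ ha
        · exact q.mul_mem_right _ (heq q hq hqp)
      rw [Groth.Agent.Ega4C.NormalRing.sInf_minimalPrimes_eq_bot] at h1
      exact h1
    rw [Ideal.mem_span_singleton]
    exact ⟨a, by linear_combination h0⟩
  have hid : IsIdempotentElem (1 - e) := by
    change (1 - e) * (1 - e) = 1 - e
    linear_combination hee
  have hloc : IsLocalization.Away (1 - e) (A ⧸ p) := by
    rw [hpe]
    exact IsLocalization.Away.quotient_of_isIdempotentElem hid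
  apply IsIntegrallyClosed.of_localization_maximal
  intro P _ _
  let Q : Ideal A := P.comap (algebraMap A (A ⧸ p))
  have hQ : Q.IsPrime := Ideal.IsPrime.comap _
  have h1 : IsLocalization.AtPrime (Localization.AtPrime P) Q :=
    IsLocalization.isLocalization_isLocalization_atPrime_isLocalization (Submonoid.powers (1 - e))
      (Localization.AtPrime P) P
  have h2 := (Groth.Agent.Ega4C.NormalRing.isNormalRing_of_isIntegrallyClosed A hfin Q).2
  exact IsIntegrallyClosed.of_equiv
    (IsLocalization.algEquiv Q.primeCompl (Localization.AtPrime Q) (Localization.AtPrime P)).toRingEquiv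

/-- The Chinese remainder theorem for the minimal primes. -/
theorem exists_lift (A : Type u) [CommRing A] [_root_.IsReduced A]
    (hfin : (minimalPrimes A).Finite) [IsIntegrallyClosed A] (b : ∀ p : minimalPrimes A, A) :
    ∃ a : A, ∀ p : minimalPrimes A, a - b p ∈ p.1 := by
  classical
  have : Fintype (minimalPrimes A) := hfin.fintype
  choose e hee hep heq using fun p : minimalPrimes A =>
    Groth.Agent.Ega4C.NormalRing.exists_idempotent A hfin p.1 p.2
  refine ⟨∑ p, (1 - e p) * b p, fun p => ?_⟩
  rw [← Finset.add_sum_erase _ _ (Finset.mem_univ p)]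
  have h1 : (1 - e p) * b p + ∑ q ∈ Finset.univ.erase p, (1 - e q) * b q - b p =
      - (e p * b p) + ∑ q ∈ Finset.univ.erase p, (1 - e q) * b q := by ring
  rw [h1]
  refine add_mem (neg_mem (p.1.mul_mem_right _ (hep p))) (sum_mem fun q hq => ?_)
  refine p.1.mul_mem_right _ (heq q p.1 p.2 ?_)
  intro h
  exact (Finset.mem_erase.1 hq).1 (Subtype.ext h.symm)

/-- A pointwise function varying along discrete valuation rings on the spectrum of a reduced Noetherian
ring, integrally closed in its total ring of fractions, is algebraic. -/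
theorem exists_section (A : Type u) [CommRing A] [_root_.IsReduced A] [IsNoetherianRing A]
    [IsIntegrallyClosed A] (f : PtFun (Spec (CommRingCat.of A))) (hf : f.VariesAlongDVR) :
    ∃ a : A, PtFun.ofSection _ (sec A a) = f := by
  have hfin : (minimalPrimes A).Finite := minimalPrimes.finite_of_isNoetherianRing A
  have hb : ∀ p : minimalPrimes A, ∃ b : A, (PtFun.ofSection _ (sec A b)).pullback
      (Spec.map (CommRingCat.ofHom (Ideal.Quotient.mk p.1))) =
      f.pullback (Spec.map (CommRingCat.ofHom (Ideal.Quotient.mk p.1))) := by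
    intro p
    have hpp : p.1.IsPrime := Ideal.IsMinimalPrime.isPrime p.2
    have hic := isIntegrallyClosed_quotient A hfin p.1 p.2
    obtain ⟨b, hb⟩ := exists_generic (A ⧸ p.1)
      (f.pullback (Spec.map (CommRingCat.ofHom (Ideal.Quotient.mk p.1)))) (varies_pullback hf _)
    obtain ⟨b, rfl⟩ := Ideal.Quotient.mk_surjective b
    refine ⟨b, eq_of_generic (A ⧸ p.1) (varies_pullback ?_ _) (varies_pullback hf _) ?_⟩
    · intro R _ _ _ g
      exact ⟨_, (PtFunBasic.pullback_ofSection g _).symm⟩
    · rw [hb, ev_pullback, ← Spec.map_comp]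
      exact ev_sec A b ((algebraMap (A ⧸ p.1) (FractionRing (A ⧸ p.1))).comp (Ideal.Quotient.mk p.1))
  choose b hb using hb
  obtain ⟨a, ha⟩ := exists_lift A hfin b
  refine ⟨a, ?_⟩
  funext x
  obtain ⟨p, hp, hpx⟩ := Ideal.exists_minimalPrimes_le (I := (⊥ : Ideal A)) (J := x.asIdeal) bot_le
  let k := x.asIdeal.ResidueField
  let ψ : A ⧸ p →+* k := Ideal.Quotient.lift p (algebraMap A k) (fun c hc => by
    have := hpx hc
    rwa [← RingHom.mem_ker, Ideal.ker_algebraMap_residueField])
  have hx : (Spec.map (CommRingCat.ofHom ψ) ≫ Spec.map (CommRingCat.ofHom (Ideal.Quotient.mk p)))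
      (IsLocalRing.closedPoint k) = x := by
    rw [← Spec.map_comp]
    apply PrimeSpectrum.ext
    refine Eq.trans (map_closedPoint_asIdeal (K := k) A (ψ.comp (Ideal.Quotient.mk p))) ?_
    have : ψ.comp (Ideal.Quotient.mk p) = algebraMap A k := rfl
    rw [this, Ideal.ker_algebraMap_residueField]
  refine eq_of_ev_eq (Spec.map (CommRingCat.ofHom ψ) ≫ Spec.map (CommRingCat.ofHom (Ideal.Quotient.mk p)))
    x hx ?_
  rw [← ev_pullback f, ← hb ⟨p, hp⟩, ev_pullback, ← Spec.map_comp]
  have h1 := ev_sec (K := k) A a (ψ.comp (Ideal.Quotient.mk p))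
  have h2 := ev_sec (K := k) A (b ⟨p, hp⟩) (ψ.comp (Ideal.Quotient.mk p))
  refine Eq.trans h1 (Eq.trans ?_ h2.symm)
  rw [RingHom.comp_apply, RingHom.comp_apply]
  congr 1
  exact Ideal.Quotient.eq.2 (ha ⟨p, hp⟩)

end K347.PtFunNormal
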