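import Groth.Agent.HTop.K347.PtFunEv
import Groth.Agent.Sga3.H818.CDvr

/-!
# Pointwise functions varying along discrete valuation rings
-/

set_option autoImplicit false

universe u

open CategoryTheory AlgebraicGeometry W4c1hilbchowinc

namespace K347.PtFunVary

open PtFunEv

variable {X Y : Scheme.{u}}

/-- Varying along (complete) discrete valuation rings, in terms of values. -/
theorem isAlgebraic_pullback_iff (f : PtFun X) (R : Type u) [CommRing R] [IsDomain R]
    [IsDiscreteValuationRing R] (F : Type u) [Field F] [Algebra R F] [IsFractionRing R F]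
    (g : Spec (CommRingCat.of R) ⟶ X) :
    (f.pullback g).IsAlgebraic ↔
      ∃ r : R, ev f (Spec.map (CommRingCat.ofHom (algebraMap R F)) ≫ g) = algebraMap R F r ∧
        ev f (Spec.map (CommRingCat.ofHom (IsLocalRing.residue R)) ≫ g) = IsLocalRing.residue R r := by
  rw [isAlgebraic_iff R F, ← ev_pullback, ← ev_pullback]

theorem variesAlongCompleteDVR_of_variesAlongDVR {f : PtFun X} (hf : f.VariesAlongDVR) :
    f.VariesAlongCompleteDVR := fun R _ _ _ _ g => hf R g

/-- An element of the fraction field of a discrete valuation ring `R` which lies in a local ring extension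
`V`, domain, comes from `R`. -/
theorem mem_of_local {R V F : Type u} [CommRing R] [IsDomain R] [IsDiscreteValuationRing R]
    [CommRing V] [IsDomain V] [IsLocalRing V] [Field F] [Algebra R F] [IsFractionRing R F]
    {G : Type u} [Field G] [Algebra V G] [IsFractionRing V G] (τ : R →+* V) [IsLocalHom τ]
    (σ : F →+* G) (hσ : ∀ r, σ (algebraMap R F r) = algebraMap V G (τ r)) (z : F) (v : V)
    (hz : σ z = algebraMap V G v) : ∃ r : R, algebraMap R F r = z := by
  by_cases hz0 : z = 0
  · exact ⟨0, by rw [hz0, map_zero]⟩
  obtain h | h := ValuationRing.isInteger_or_isInteger R z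
  · obtain ⟨r, hr⟩ := h
    exact ⟨r, hr⟩
  · obtain ⟨r, hr⟩ := h
    by_cases hu : IsUnit r
    · obtain ⟨s, hs⟩ := hu.exists_right_inv
      refine ⟨s, ?_⟩
      have h1 : algebraMap R F r * algebraMap R F s = 1 := by rw [← map_mul, hs, map_one]
      rw [hr] at h1
      exact (eq_of_inv_mul_eq_one h1).symm
    · exfalso
      apply hu
      have hv : τ r * v = 1 := by
        apply IsFractionRing.injective V G
        rw [map_mul, map_one, ← hσ, ← hz, hr, ← map_mul, inv_mul_cancel₀ hz0, map_one]
      exact isUnit_of_map_unit τ r (IsUnit.of_mul_eq_one _ hv)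

/-- Varying along complete discrete valuation rings implies varying along all of them. -/
theorem variesAlongDVR_of_variesAlongCompleteDVR {f : PtFun X} (hf : f.VariesAlongCompleteDVR) :
    f.VariesAlongDVR := by
  intro R _ _ _ g
  obtain ⟨V, _, _, _, hc, τ, hτ, hτl⟩ := Groth.Agent.Sga3.H818.CDvr.exists_complete R
  let F := FractionRing R
  let G := FractionRing V
  have hinj : Function.Injective ((algebraMap V G).comp τ) := (IsFractionRing.injective V G).comp hτ
  let σ : F →+* G := IsFractionRing.lift (A := R) (K := F) hinj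
  have hσ : ∀ r, σ (algebraMap R F r) = algebraMap V G (τ r) := fun r => IsFractionRing.lift_algebraMap hinj r
  obtain ⟨v, hv1, hv2⟩ := (isAlgebraic_pullback_iff f V G
    (Spec.map (CommRingCat.ofHom τ) ≫ g)).1 (hf V _)
  -- rewrite the two values
  have h1 : ev f (Spec.map (CommRingCat.ofHom (algebraMap V G)) ≫ Spec.map (CommRingCat.ofHom τ) ≫ g) =
      σ (ev f (Spec.map (CommRingCat.ofHom (algebraMap R F)) ≫ g)) := by
    have := ev_map f (Spec.map (CommRingCat.ofHom (algebraMap R F)) ≫ g) (CommRingCat.ofHom σ)
    rw [← Category.assoc, ← Spec.map_comp] at this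
    rw [← Category.assoc, ← Spec.map_comp]
    refine Eq.trans ?_ this
    congr 3
    exact congrArg CommRingCat.ofHom (RingHom.ext fun r => (hσ r).symm)
  have h2 : ev f (Spec.map (CommRingCat.ofHom (IsLocalRing.residue V)) ≫
      Spec.map (CommRingCat.ofHom τ) ≫ g) =
      IsLocalRing.ResidueField.map τ
        (ev f (Spec.map (CommRingCat.ofHom (IsLocalRing.residue R)) ≫ g)) := by
    have := ev_map f (Spec.map (CommRingCat.ofHom (IsLocalRing.residue R)) ≫ g)
      (CommRingCat.ofHom (IsLocalRing.ResidueField.map τ))
    rw [← Category.assoc, ← Spec.map_comp] at this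
    rw [← Category.assoc, ← Spec.map_comp]
    refine Eq.trans ?_ this
    congr 3
  rw [h1] at hv1
  rw [h2] at hv2
  obtain ⟨r, hr⟩ := mem_of_local τ σ hσ _ v hv1
  refine (isAlgebraic_pullback_iff f R F g).2 ⟨r, hr.symm, ?_⟩
  apply (IsLocalRing.ResidueField.map τ).injective
  rw [hv2, IsLocalRing.ResidueField.map_residue]
  congr 1
  apply IsFractionRing.injective V G
  rw [← hv1, ← hr, hσ]

end K347.PtFunVary
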