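import Groth.Prelude.Def_HTop
import Groth.Prelude.Def_QuotSh
import Mathlib.AlgebraicGeometry.Sites.BigZariski
import Mathlib.CategoryTheory.Sites.LocallyInjective
import Mathlib.CategoryTheory.Sites.LocallySurjective

/-!
# Sections of the Zariski sheafification over quasi-compact quasi-separated schemes
-/

set_option autoImplicit false
universe w u

open CategoryTheory CategoryTheory.Limits AlgebraicGeometry Opposite

namespace K347.SheafifyQcqs

variable {S : Scheme.{u}}

/-- An open subscheme of an `S`-scheme, as an `S`-scheme. -/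
abbrev oX (X : Over S) (U : X.left.Opens) : Over S := Over.mk (U.ι ≫ X.hom)

/-- The inclusion of an open subscheme over `S`. -/
abbrev oι (X : Over S) (U : X.left.Opens) : oX X U ⟶ X := Over.homMk U.ι rfl

/-- The inclusion between two open subschemes over `S`. -/
noncomputable abbrev oh (X : Over S) {U V : X.left.Opens} (h : U ≤ V) : oX X U ⟶ oX X V :=
  Over.homMk (X.left.homOfLE h) (by simp)

@[reassoc (attr := simp)]
theorem oh_oι (X : Over S) {U V : X.left.Opens} (h : U ≤ V) : oh X h ≫ oι X V = oι X U := by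
  ext1
  simp

theorem mem_of_opens {X : Over S} (R : Sieve X) {κ : Type u} (U : κ → X.left.Opens) (hU : ⨆ k, U k = ⊤)
    (h : ∀ k, R (oι X (U k))) : R ∈ (Scheme.zariskiTopology.{u}.over S) X := by
  rw [GrothendieckTopology.mem_over_iff]
  refine (Scheme.mem_grothendieckTopology_iff).2 ?_
  refine ⟨X.left.openCoverOfIsOpenCover U (.mk hU), ?_⟩
  rintro Y _ ⟨k⟩
  rw [Sieve.overEquiv_iff]
  exact h k

theorem exists_opens_of_mem {X : Over S} [CompactSpace X.left] (R : Sieve X)
    (hR : R ∈ (Scheme.zariskiTopology.{u}.over S) X) :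
    ∃ (κ : Type u) (_ : Finite κ) (U : κ → X.left.Opens), (∀ k, IsAffineOpen (U k)) ∧ ⨆ k, U k = ⊤ ∧
      ∀ k, R (oι X (U k)) := by
  rw [GrothendieckTopology.mem_over_iff] at hR
  obtain ⟨𝒰, h𝒰⟩ := (Scheme.mem_grothendieckTopology_iff).1 hR
  have h1 : ∀ x : X.left, ∃ U : X.left.Opens, IsAffineOpen U ∧ x ∈ U ∧ R (oι X U) := by
    intro x
    obtain ⟨y, hy⟩ := 𝒰.covers x
    obtain ⟨_, ⟨U, hU, rfl⟩, hxU, hle⟩ := X.left.isBasis_affineOpens.exists_subset_of_mem_open
      (show x ∈ ((𝒰.f (𝒰.idx x)).opensRange : Set X.left) from ⟨y, hy⟩) (𝒰.f (𝒰.idx x)).opensRange.2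
    refine ⟨U, hU, hxU, ?_⟩
    have h2 := h𝒰 _ _ (Presieve.ofArrows.mk (𝒰.idx x))
    rw [Sieve.overEquiv_iff] at h2
    have h3 : Set.range (Scheme.Opens.ι U) ⊆ Set.range (𝒰.f (𝒰.idx x)) := by
      rw [Scheme.Opens.range_ι]
      exact hle
    have h4 := R.downward_closed h2
      (Over.homMk (IsOpenImmersion.lift (𝒰.f (𝒰.idx x)) (Scheme.Opens.ι U) h3) (by
        change _ ≫ 𝒰.f (𝒰.idx x) ≫ X.hom = _
        rw [IsOpenImmersion.lift_fac_assoc]
        rfl) : oX X U ⟶ _)
    convert h4 using 1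
    ext1
    exact (IsOpenImmersion.lift_fac _ _ _).symm
  choose U hU hxU hRU using h1
  obtain ⟨t, ht⟩ := isCompact_univ.elim_finite_subcover (fun x => (U x : Set X.left)) (fun x => (U x).2)
    (fun x _ => Set.mem_iUnion.2 ⟨x, hxU x⟩)
  refine ⟨t, inferInstance, fun k => U k, fun k => hU k, ?_, fun k => hRU k⟩
  rw [eq_top_iff]
  intro x _
  obtain ⟨k, hk⟩ := Set.mem_iUnion.1 (ht (Set.mem_univ x))
  obtain ⟨hk', hxk⟩ := Set.mem_iUnion.1 hk
  exact TopologicalSpace.Opens.mem_iSup.2 ⟨⟨k, hk'⟩, hxk⟩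

/-- A presheaf on `S`-schemes is separated, respectively has gluing, for finite open covers. -/
def FinSep (Q : (Over S)ᵒᵖ ⥤ Type w) : Prop :=
  ∀ (X : Over S) {κ : Type u} [Finite κ] (U : κ → X.left.Opens), ⨆ k, U k = ⊤ →
    ∀ x y : Q.obj (op X), (∀ k, Q.map (oι X (U k)).op x = Q.map (oι X (U k)).op y) → x = y

/-- Gluing for finite open covers. -/
def FinGlue (Q : (Over S)ᵒᵖ ⥤ Type w) : Prop :=
  ∀ (X : Over S) {κ : Type u} [Finite κ] (U : κ → X.left.Opens), ⨆ k, U k = ⊤ →
    ∀ x : ∀ k, Q.obj (op (oX X (U k))),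
      (∀ k l, Q.map (oh X (inf_le_left : U k ⊓ U l ≤ U k)).op (x k) =
        Q.map (oh X (inf_le_right : U k ⊓ U l ≤ U l)).op (x l)) →
      ∃ y : Q.obj (op X), ∀ k, Q.map (oι X (U k)).op y = x k

/-- A Zariski sheaf is separated for open covers. -/
theorem eq_of_isSheaf {Q : (Over S)ᵒᵖ ⥤ Type w} (hQ : Presieve.IsSheaf (Scheme.zariskiTopology.{u}.over S) Q)
    (X : Over S) {κ : Type u} (U : κ → X.left.Opens) (hU : ⨆ k, U k = ⊤) (x y : Q.obj (op X))
    (h : ∀ k, Q.map (oι X (U k)).op x = Q.map (oι X (U k)).op y) : x = y := by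
  have h1 : Presheaf.equalizerSieve (F := Q) x y ∈ (Scheme.zariskiTopology.{u}.over S) X :=
    mem_of_opens _ U hU h
  exact (hQ _ h1).isSeparatedFor.ext fun Y f hf => hf

section

variable (Q : (Over S)ᵒᵖ ⥤ Type (u + 1))

theorem injective_toSheafify (hsep : FinSep Q) (X : Over S) [CompactSpace X.left] :
    Function.Injective (((Scheme.zariskiTopology.{u}.over S).toSheafify Q).app (op X)) := by
  intro x y hxy
  have h1 : Presheaf.equalizerSieve (F := Q) x y ∈ (Scheme.zariskiTopology.{u}.over S) X :=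
    Presheaf.equalizerSieve_mem (Scheme.zariskiTopology.{u}.over S)
      ((Scheme.zariskiTopology.{u}.over S).toSheafify Q) x y hxy
  obtain ⟨κ, _, U, -, hU, h2⟩ := exists_opens_of_mem _ h1
  exact hsep X U hU x y h2

theorem bijective_toSheafify (hsep : FinSep Q) (hglue : FinGlue Q) (X : Over S) [CompactSpace X.left]
    [QuasiSeparatedSpace X.left] :
    Function.Bijective (((Scheme.zariskiTopology.{u}.over S).toSheafify Q).app (op X)) := by
  refine ⟨injective_toSheafify Q hsep X, ?_⟩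
  intro s
  have h1 : Presheaf.imageSieve ((Scheme.zariskiTopology.{u}.over S).toSheafify Q) s ∈
      (Scheme.zariskiTopology.{u}.over S) X :=
    Presheaf.imageSieve_mem (Scheme.zariskiTopology.{u}.over S)
      ((Scheme.zariskiTopology.{u}.over S).toSheafify Q) (U := op X) s
  obtain ⟨κ, _, U, hUa, hU, h2⟩ := exists_opens_of_mem _ h1
  choose t ht using h2
  have hsh : Presieve.IsSheaf (Scheme.zariskiTopology.{u}.over S)
      ((Scheme.zariskiTopology.{u}.over S).sheafify Q) :=
    (isSheaf_iff_isSheaf_of_type _ _).1 (GrothendieckTopology.sheafify_isSheaf _ _)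
  obtain ⟨y, hy⟩ := hglue X U hU t (by
    intro k l
    have : CompactSpace (oX X (U k ⊓ U l)).left :=
      isCompact_iff_compactSpace.1 ((hUa k).isCompact.inter_of_isOpen (hUa l).isCompact (U k).2 (U l).2)
    apply injective_toSheafify Q hsep (oX X (U k ⊓ U l))
    have e1 := NatTrans.naturality_apply ((Scheme.zariskiTopology.{u}.over S).toSheafify Q)
      (oh X (inf_le_left : U k ⊓ U l ≤ U k)).op (t k)
    have e2 := NatTrans.naturality_apply ((Scheme.zariskiTopology.{u}.over S).toSheafify Q)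
      (oh X (inf_le_right : U k ⊓ U l ≤ U l)).op (t l)
    rw [e1, e2, ht, ht, ← comp_apply, ← comp_apply, ← Functor.map_comp, ← Functor.map_comp, ← op_comp,
      ← op_comp, oh_oι, oh_oι])
  refine ⟨y, ?_⟩
  refine eq_of_isSheaf hsh X U hU _ _ fun k => ?_
  have e := NatTrans.naturality_apply ((Scheme.zariskiTopology.{u}.over S).toSheafify Q)
      (oι X (U k)).op y
  rw [← e, hy, ht]

end

end K347.SheafifyQcqs
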