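import Groth.Prelude.Def_HTop2
import Mathlib.RingTheory.Ideal.GoingUp
import Mathlib.RingTheory.Ideal.MinimalPrime.Localization
import Mathlib.RingTheory.Spectrum.Prime.Basic
import Mathlib.RingTheory.IntegralClosure.IsIntegralClosure.Basic

/-!
# A seminormal ring has no proper reduced subintegral extension

Let `A` be a seminormal ring and `A → C` an injective integral ring map with `C` reduced, such that
`Spec C → Spec A` is injective and all residue field extensions are trivial.  Then `A = C`.
-/

set_option autoImplicit false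

universe u v

namespace K347.SubInt

/-- In a reduced commutative ring an element is determined by its square and its cube. -/
theorem eq_of_sq_of_cube {C : Type v} [CommRing C] [IsReduced C] {a d : C} (h2 : a ^ 2 = d ^ 2)
    (h3 : a ^ 3 = d ^ 3) : a = d := by
  have h : (a - d) ^ 3 = 0 := by
    have : (a - d) ^ 3 = (a ^ 3 - d ^ 3) - 3 * d * (a ^ 2 - d ^ 2) + 3 * a * (d ^ 2 - a ^ 2) +
      3 * (a ^ 3 - d ^ 3) := by ring
    rw [this, h2, h3]
    ring
  exact sub_eq_zero.1 (pow_eq_zero_iff (by norm_num) |>.1 h)

variable {A : Type u} {C : Type v} [CommRing A] [CommRing C] [Algebra A C]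

/-- The conductor of `A → C`: elements `x` of `C` with `x C` in the image of `A`. -/
def conductor (A : Type u) (C : Type v) [CommRing A] [CommRing C] [Algebra A C] : Ideal C where
  carrier := {x | ∀ c : C, x * c ∈ (algebraMap A C).range}
  add_mem' := by
    intro x y hx hy c
    rw [add_mul]
    exact add_mem (hx c) (hy c)
  zero_mem' := by
    intro c
    rw [zero_mul]
    exact zero_mem _
  smul_mem' := by
    intro r x hx c
    have : r • x * c = x * (r * c) := by
      rw [smul_eq_mul]
      ring
    rw [this]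
    exact hx _

theorem mem_conductor {x : C} : x ∈ conductor A C ↔ ∀ c : C, x * c ∈ (algebraMap A C).range :=
  Iff.rfl

/-- If `A` is seminormal and `C` reduced, an element of `C` with square and cube in (the injective image
of) `A` is in `A`. -/
theorem mem_range_of_sq_of_cube (hA : ∀ x y : A, x ^ 3 = y ^ 2 → ∃ a : A, x = a ^ 2 ∧ y = a ^ 3)
    [IsReduced C] (hinj : Function.Injective (algebraMap A C)) {d : C}
    (h2 : d ^ 2 ∈ (algebraMap A C).range) (h3 : d ^ 3 ∈ (algebraMap A C).range) :
    d ∈ (algebraMap A C).range := by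
  obtain ⟨x, hx⟩ := h2
  obtain ⟨y, hy⟩ := h3
  obtain ⟨a, ha2, ha3⟩ := hA x y (hinj (by rw [map_pow, map_pow, hx, hy]; ring))
  refine ⟨a, eq_of_sq_of_cube ?_ ?_⟩
  · rw [← map_pow, ← ha2, hx]
  · rw [← map_pow, ← ha3, hy]

theorem isRadical_conductor (hA : ∀ x y : A, x ^ 3 = y ^ 2 → ∃ a : A, x = a ^ 2 ∧ y = a ^ 3)
    [IsReduced C] (hinj : Function.Injective (algebraMap A C)) : (conductor A C).IsRadical := by
  rw [Ideal.isRadical_iff_pow_one_lt 2 one_lt_two]
  intro c hc d
  apply mem_range_of_sq_of_cube hA hinj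
  · rw [mul_pow]
    exact hc _
  · have : (c * d) ^ 3 = c ^ 2 * (c * d ^ 3) := by ring
    rw [this]
    exact hc _

/-- The finite case. -/
theorem surjective_of_finite (hA : ∀ x y : A, x ^ 3 = y ^ 2 → ∃ a : A, x = a ^ 2 ∧ y = a ^ 3)
    [IsReduced C] [Module.Finite A C] (hinj : Function.Injective (algebraMap A C))
    (hspec : ∀ q q' : Ideal C, q.IsPrime → q'.IsPrime →
      q.comap (algebraMap A C) = q'.comap (algebraMap A C) → q = q')
    (hres : ∀ q : Ideal C, q.IsPrime → ∀ c : C, ∃ a s : A, algebraMap A C s ∉ q ∧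
      algebraMap A C s * c - algebraMap A C a ∈ q) :
    Function.Surjective (algebraMap A C) := by
  classical
  set J := conductor A C with hJ
  have hJrad : J.IsRadical := isRadical_conductor hA hinj
  by_cases htop : J = ⊤
  · intro c
    have h1 : (1 : C) ∈ J := by
      rw [htop]
      trivial
    have := h1 c
    rwa [one_mul] at this
  exfalso
  set I : Ideal A := J.comap (algebraMap A C) with hI
  have hI' : I ≠ ⊤ := by
    intro h
    apply htop
    rw [Ideal.eq_top_iff_one] at h ⊢
    rw [hI, Ideal.mem_comap, map_one] at h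
    exact h
  obtain ⟨m, hm, hIm⟩ := Ideal.exists_le_maximal I hI'
  have := hm.isPrime
  obtain ⟨p, hp, -⟩ := Ideal.exists_minimalPrimes_le hIm
  have hpp : p.IsPrime := hp.1.1
  -- the unique prime above `p`
  have : Algebra.IsIntegral A C := Algebra.IsIntegral.of_finite A C
  obtain ⟨q, hq, hqp⟩ : ∃ q : Ideal C, q.IsPrime ∧ q.comap (algebraMap A C) = p := by
    obtain ⟨q, -, hq, hqp⟩ := Ideal.exists_ideal_over_prime_of_isIntegral p (⊥ : Ideal C) (by
      intro a ha
      rw [Ideal.mem_comap, Ideal.mem_bot] at ha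
      have h0 : a = 0 := hinj (by rw [ha, map_zero])
      rw [h0]
      exact zero_mem _)
    exact ⟨q, hq, hqp⟩
  -- every element of `q` is multiplied into `J` by some `s ∉ p`
  have key : ∀ c ∈ q, ∃ s : A, s ∉ p ∧ algebraMap A C s * c ∈ J := by
    intro c hc
    by_contra hcon
    push Not at hcon
    let M : Submonoid C :=
      { carrier := {x | ∃ (s : A) (n : ℕ), s ∉ p ∧ x = algebraMap A C s * c ^ n}
        one_mem' := ⟨1, 0, fun h => hpp.ne_top ((Ideal.eq_top_iff_one _).2 h), by simp⟩
        mul_mem' := by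
          rintro _ _ ⟨s, n, hs, rfl⟩ ⟨s', n', hs', rfl⟩
          refine ⟨s * s', n + n', fun h => ?_, by rw [map_mul, pow_add]; ring⟩
          rcases hpp.mem_or_mem h with h | h
          · exact hs h
          · exact hs' h }
    have hdis : Disjoint (J : Set C) M := by
      rw [Set.disjoint_left]
      rintro _ hxJ ⟨s, n, hs, rfl⟩
      apply hcon s hs
      apply hJrad
      refine ⟨n + 1, ?_⟩
      have : (algebraMap A C s * c) ^ (n + 1) =
          algebraMap A C s ^ n * c * (algebraMap A C s * c ^ n) := by ring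
      rw [this]
      exact J.mul_mem_left _ hxJ
    obtain ⟨q', hq', hJq', hdq'⟩ := Ideal.exists_le_prime_disjoint J M hdis
    have h1 : q'.comap (algebraMap A C) ≤ p := by
      intro s hs
      by_contra hsp
      exact (Set.disjoint_left.mp hdq') hs ⟨s, 0, hsp, by simp⟩
    have h2 : I ≤ q'.comap (algebraMap A C) := Ideal.comap_mono hJq'
    have h3 : q'.comap (algebraMap A C) = p :=
      le_antisymm h1 (hp.2 ⟨Ideal.IsPrime.comap _, h2⟩ h1)
    have h4 : q' = q := hspec q' q hq' hq (by rw [h3, hqp])
    have h5 : c ∈ q' := by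
      rw [h4]
      exact hc
    exact (Set.disjoint_left.mp hdq') h5
      ⟨1, 1, fun h => hpp.ne_top ((Ideal.eq_top_iff_one _).2 h), by simp⟩
  -- every element of `C` is multiplied into `A` by some `s ∉ p`
  have key2 : ∀ c : C, ∃ s : A, s ∉ p ∧ algebraMap A C s * c ∈ (algebraMap A C).range := by
    intro c
    obtain ⟨a, s, hs, hsa⟩ := hres q hq c
    obtain ⟨t, ht, htJ⟩ := key _ hsa
    refine ⟨t * s, fun h => ?_, ?_⟩
    · rcases hpp.mem_or_mem h with h | h
      · exact ht h
      · rw [← hqp] at h
        exact hs h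
    · have h1 := htJ 1
      rw [mul_one] at h1
      have h2 : algebraMap A C (t * s) * c = algebraMap A C t *
          (algebraMap A C s * c - algebraMap A C a) + algebraMap A C (t * a) := by
        rw [map_mul, map_mul]
        ring
      rw [h2]
      exact add_mem h1 ⟨_, rfl⟩
  -- uniformly in `c`
  obtain ⟨T, hT⟩ := (Module.Finite.fg_top : (⊤ : Submodule A C).FG)
  choose s hs hsc using key2
  have hprod : ∏ t ∈ T, s t ∉ p := by
    intro h
    obtain ⟨t, -, ht⟩ := (hpp.prod_mem_iff).1 h
    exact hs t ht
  apply hprod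
  have hmem : ∏ t ∈ T, s t ∈ I := by
    intro c
    change algebraMap A C (∏ t ∈ T, s t) * c ∈ _
    have hc : c ∈ Submodule.span A (T : Set C) := by
      rw [hT]
      trivial
    induction hc using Submodule.span_induction with
    | mem x hx =>
      have hx' : x ∈ T := hx
      rw [← Finset.mul_prod_erase T s hx', map_mul]
      have : algebraMap A C (s x) * algebraMap A C (∏ t ∈ T.erase x, s t) * x =
          algebraMap A C (∏ t ∈ T.erase x, s t) * (algebraMap A C (s x) * x) := by ring
      rw [this]
      exact mul_mem ⟨_, rfl⟩ (hsc x)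
    | zero =>
      rw [mul_zero]
      exact zero_mem _
    | add x y _ _ hx hy =>
      rw [mul_add]
      exact add_mem hx hy
    | smul r x _ hx =>
      rw [Algebra.smul_def]
      have : algebraMap A C (∏ t ∈ T, s t) * (algebraMap A C r * x) =
          algebraMap A C r * (algebraMap A C (∏ t ∈ T, s t) * x) := by ring
      rw [this]
      exact mul_mem ⟨_, rfl⟩ hx
  exact hp.1.2 hmem

/-- A seminormal ring `A` has no proper reduced subintegral extension: if `A → C` is injective and
integral, `C` is reduced, `Spec C → Spec A` is injective and the residue field extensions are trivial,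
then `A → C` is surjective. -/
theorem surjective_of_isIntegral
    (hA : ∀ x y : A, x ^ 3 = y ^ 2 → ∃ a : A, x = a ^ 2 ∧ y = a ^ 3)
    [IsReduced C] [Algebra.IsIntegral A C] (hinj : Function.Injective (algebraMap A C))
    (hspec : ∀ q q' : Ideal C, q.IsPrime → q'.IsPrime →
      q.comap (algebraMap A C) = q'.comap (algebraMap A C) → q = q')
    (hres : ∀ q : Ideal C, q.IsPrime → ∀ c : C, ∃ a s : A, algebraMap A C s ∉ q ∧
      algebraMap A C s * c - algebraMap A C a ∈ q) :
    Function.Surjective (algebraMap A C) := by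
  intro c
  let D : Subalgebra A C := Algebra.adjoin A {c}
  have hfin : Module.Finite A D := Algebra.finite_adjoin_simple_of_isIntegral
    (Algebra.IsIntegral.isIntegral c)
  have hDred : IsReduced D := isReduced_of_injective D.val Subtype.val_injective
  have hDinj : Function.Injective (algebraMap A D) := by
    intro x y hxy
    exact hinj (congrArg (fun z : D => (z : C)) hxy)
  have hlift : ∀ q : Ideal D, q.IsPrime → ∃ Q : Ideal C, Q.IsPrime ∧ Q.comap (algebraMap D C) = q := by
    intro q hq
    have : Algebra.IsIntegral D C := Algebra.IsIntegral.tower_top (R := A)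
    obtain ⟨Q, -, hQ, hQq⟩ := Ideal.exists_ideal_over_prime_of_isIntegral q (⊥ : Ideal C) (by
      intro a ha
      rw [Ideal.mem_comap, Ideal.mem_bot] at ha
      have h0 : a = 0 := Subtype.ext ha
      rw [h0]
      exact zero_mem _)
    exact ⟨Q, hQ, hQq⟩
  have hsurj := surjective_of_finite (C := D) hA hDinj (by
    intro q q' hq hq' h
    obtain ⟨Q, hQ, rfl⟩ := hlift q hq
    obtain ⟨Q', hQ', rfl⟩ := hlift q' hq'
    have : Q = Q' := hspec Q Q' hQ hQ' (by
      rw [Ideal.comap_comap, Ideal.comap_comap, ← IsScalarTower.algebraMap_eq] at h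
      exact h)
    rw [this]) (by
    intro q hq d
    obtain ⟨Q, hQ, rfl⟩ := hlift q hq
    obtain ⟨a, s, hs, hsa⟩ := hres Q hQ d
    exact ⟨a, s, hs, hsa⟩)
  obtain ⟨a, ha⟩ := hsurj ⟨c, Algebra.self_mem_adjoin_singleton A c⟩
  exact ⟨a, congrArg (fun z : D => (z : C)) ha⟩

/-- A seminormal ring is reduced. -/
theorem isReduced_of_isSeminormalRing (hA : HTop.IsSeminormalRing A) : IsReduced A := by
  refine (isReduced_iff_pow_one_lt 2 one_lt_two).2 fun x hx => ?_
  obtain ⟨a, -, hun⟩ := hA 0 0 (by ring)
  have h1 := hun x ⟨by rw [hx], by rw [pow_succ, hx, zero_mul]⟩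
  have h2 := hun 0 ⟨by ring, by ring⟩
  rw [h1, ← h2]

end K347.SubInt
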