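import Groth.Agent.HTop.K347.SubInt
import Mathlib.AlgebraicGeometry.Morphisms.Integral
import Mathlib.AlgebraicGeometry.Morphisms.IsIso
import Mathlib.AlgebraicGeometry.ResidueField

/-!
# Seminormal schemes have no proper reduced subintegral coverings
-/

set_option autoImplicit false

universe u

open CategoryTheory AlgebraicGeometry

namespace K347.SubIntScheme

variable {X Y : Scheme.{u}}

/-- Membership in a prime of `Γ(X, U)`, `U` affine, is vanishing at the corresponding point. -/
theorem mem_asIdeal_iff_evaluation_eq_zero {U : X.Opens} (hU : IsAffineOpen U)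
    (q : PrimeSpectrum Γ(X, U)) (a : Γ(X, U)) (x : X) (hx : x ∈ U) (hq : hU.fromSpec q = x) :
    a ∈ q.asIdeal ↔ X.evaluation U x hx a = 0 := by
  rw [X.evaluation_eq_zero_iff_notMem_basicOpen, ← hq]
  have h : (hU.fromSpec q ∈ X.basicOpen a) ↔ q ∈ hU.fromSpec ⁻¹ᵁ X.basicOpen a := Iff.rfl
  rw [h, hU.fromSpec_preimage_basicOpen]
  change _ ↔ ¬ (a ∉ q.asIdeal)
  rw [not_not]

/-- Every element of the residue field at a point of an affine open is a quotient of values of sections. -/
theorem exists_evaluation_mul_eq {U : X.Opens} (hU : IsAffineOpen U) (x : X) (hx : x ∈ U)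
    (z : X.residueField x) :
    ∃ a s : Γ(X, U), X.evaluation U x hx s ≠ 0 ∧ X.evaluation U x hx s * z = X.evaluation U x hx a := by
  obtain ⟨z, rfl⟩ := X.residue_surjective x z
  let _ : Algebra Γ(X, U) (X.presheaf.stalk x) := (X.presheaf.germ U x hx).hom.toAlgebra
  have hloc := hU.isLocalization_stalk ⟨x, hx⟩
  obtain ⟨⟨a, s⟩, hs⟩ := IsLocalization.surj (M := (hU.primeIdealOf ⟨x, hx⟩).asIdeal.primeCompl) z
  refine ⟨a, s, ?_, ?_⟩
  · rw [Ne, ← mem_asIdeal_iff_evaluation_eq_zero hU (hU.primeIdealOf ⟨x, hx⟩) s x hx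
      (hU.fromSpec_primeIdealOf ⟨x, hx⟩)]
    exact s.2
  · have h1 : z * X.presheaf.germ U x hx s = X.presheaf.germ U x hx a := hs
    have h2 := congrArg (X.residue x) h1
    rw [map_mul, mul_comm] at h2
    exact h2

/-- Injectivity on sections of a morphism whose image contains an affine open with reduced sections. -/
theorem app_injective_of_surjective (f : Y ⟶ X) (hf : Function.Surjective f) {U : X.Opens}
    (hU : IsAffineOpen U) [_root_.IsReduced Γ(X, U)] : Function.Injective (f.app U) := by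
  rw [injective_iff_map_eq_zero]
  intro a ha
  have h1 : X.basicOpen a = ⊥ := by
    rw [eq_bot_iff]
    intro x hx
    obtain ⟨y, rfl⟩ := hf x
    have h2 : y ∈ f ⁻¹ᵁ X.basicOpen a := hx
    rw [Scheme.preimage_basicOpen, ha, Scheme.basicOpen_zero] at h2
    exact h2
  exact ((Scheme.isNilpotent_iff_basicOpen_eq_bot_of_isCompact hU.isCompact a).2 h1).eq_zero

/-- Over an affine open with seminormal sections, an integral surjective injective morphism from a reduced
scheme with trivial residue field extensions is an isomorphism. -/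
theorem isIso_morphismRestrict {ν : Y ⟶ X} [IsIntegralHom ν] [IsReduced Y]
    (hsurj : Function.Surjective ν) (hinj : Function.Injective ν)
    (hres : ∀ y : Y, Function.Surjective (ν.residueFieldMap y)) {U : X.Opens} (hU : IsAffineOpen U)
    (hA : HTop.IsSeminormalRing Γ(X, U)) : IsIso (ν ∣_ U) := by
  refine (isIso_morphismRestrict_iff_isIso_app (f := ν) hU).2 ?_
  rw [ConcreteCategory.isIso_iff_bijective]
  have hred : _root_.IsReduced Γ(X, U) := SubInt.isReduced_of_isSeminormalRing hA
  have hV : IsAffineOpen (ν ⁻¹ᵁ U) := hU.preimage ν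
  have hinj' := app_injective_of_surjective ν hsurj hU
  refine ⟨hinj', ?_⟩
  let _ : Algebra Γ(X, U) Γ(Y, ν ⁻¹ᵁ U) := (ν.app U).hom.toAlgebra
  have halg : algebraMap Γ(X, U) Γ(Y, ν ⁻¹ᵁ U) = (ν.app U).hom := rfl
  have hint : Algebra.IsIntegral Γ(X, U) Γ(Y, ν ⁻¹ᵁ U) :=
    ⟨IsIntegralHom.isIntegral_app ν U hU⟩
  have hpt : ∀ q : PrimeSpectrum Γ(Y, ν ⁻¹ᵁ U), ν (hV.fromSpec q) =
      hU.fromSpec (PrimeSpectrum.comap (ν.app U).hom q) := by
    intro q
    have h := IsAffineOpen.SpecMap_appLE_fromSpec ν hU hV le_rfl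
    have h' := congrArg (fun g : Spec Γ(Y, ν ⁻¹ᵁ U) ⟶ X => g q) h
    simp only [Scheme.Hom.comp_apply] at h'
    rw [← h', Scheme.Hom.app_eq_appLE]
    rfl
  have hmem : ∀ q : PrimeSpectrum Γ(Y, ν ⁻¹ᵁ U), hV.fromSpec q ∈ ν ⁻¹ᵁ U := by
    intro q
    have : hV.fromSpec q ∈ Set.range hV.fromSpec := ⟨q, rfl⟩
    rwa [hV.range_fromSpec] at this
  exact SubInt.surjective_of_isIntegral (A := Γ(X, U)) (C := Γ(Y, ν ⁻¹ᵁ U))
    (fun x y h => (hA x y h).exists) hinj' (by
    intro q q' hq hq' h
    have h1 : PrimeSpectrum.comap (ν.app U).hom ⟨q, hq⟩ = PrimeSpectrum.comap (ν.app U).hom ⟨q', hq'⟩ :=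
      PrimeSpectrum.ext h
    have h2 : ν (hV.fromSpec ⟨q, hq⟩) = ν (hV.fromSpec ⟨q', hq'⟩) := by rw [hpt, hpt, h1]
    have h3 := hV.fromSpec.isOpenEmbedding.injective (hinj h2)
    exact congrArg PrimeSpectrum.asIdeal h3) (by
    intro q hq c
    set y : Y := hV.fromSpec ⟨q, hq⟩ with hy
    have hyU : y ∈ ν ⁻¹ᵁ U := hmem _
    obtain ⟨z, hz⟩ := hres y (Y.evaluation (ν ⁻¹ᵁ U) y hyU c)
    obtain ⟨a, s, hs, hsz⟩ := exists_evaluation_mul_eq hU (ν y) hyU z
    have h1 := congrArg (ν.residueFieldMap y) hsz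
    rw [map_mul, hz, Scheme.evaluation_naturality_apply, Scheme.evaluation_naturality_apply,
      ← map_mul] at h1
    refine ⟨a, s, fun h => ?_, ?_⟩
    · rw [halg, mem_asIdeal_iff_evaluation_eq_zero hV ⟨q, hq⟩ _ y hyU rfl] at h
      apply hs
      have h2 : ν.residueFieldMap y (X.evaluation U (ν y) hyU s) = 0 := by
        rw [Scheme.evaluation_naturality_apply]
        exact h
      exact (map_eq_zero (ν.residueFieldMap y).hom).1 h2
    · rw [halg]
      refine (mem_asIdeal_iff_evaluation_eq_zero hV ⟨q, hq⟩ _ y hyU rfl).2 ?_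
      rw [map_sub, sub_eq_zero]
      exact h1)

/-- **A seminormal scheme has no proper reduced subintegral covering**: an integral, surjective, injective
morphism `ν : Y ⟶ X` with trivial residue field extensions, from a reduced scheme to a seminormal scheme,
is an isomorphism. -/
theorem isIso_of_isSeminormal (ν : Y ⟶ X) [IsIntegralHom ν] [IsReduced Y] (hX : HTop.IsSeminormal X)
    (hsurj : Function.Surjective ν) (hinj : Function.Injective ν)
    (hres : ∀ y : Y, Function.Surjective (ν.residueFieldMap y)) : IsIso ν := by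
  choose U hxU hU using hX
  have h := IsZariskiLocalAtTarget.of_iSup_eq_top (P := MorphismProperty.isomorphisms Scheme.{u})
    (f := ν) (fun x : X => (U x : X.Opens)) (by
      rw [eq_top_iff]
      intro x _
      rw [TopologicalSpace.Opens.mem_iSup]
      exact ⟨x, hxU x⟩) (fun x => isIso_morphismRestrict hsurj hinj hres (U x).2 (hU x))
  exact h

end K347.SubIntScheme
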