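import Mathlib.CategoryTheory.Sites.IsSheafFor
import Mathlib.CategoryTheory.Sites.Grothendieck
import Mathlib.CategoryTheory.Limits.Shapes.Pullback.IsPullback.Basic

/-!
# Sieves generated by two morphisms
-/

set_option autoImplicit false
universe w v u

open CategoryTheory CategoryTheory.Limits Opposite

namespace K347.Two

variable {C : Type u} [Category.{v} C]

/-- The sieve of all arrows factoring through `i` or through `b`. -/
def two {X Z X' : C} (i : Z ⟶ X) (b : X' ⟶ X) : Sieve X where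
  arrows T g := (∃ k : T ⟶ Z, k ≫ i = g) ∨ (∃ k : T ⟶ X', k ≫ b = g)
  downward_closed := by
    rintro T T' g (⟨k, rfl⟩ | ⟨k, rfl⟩) h
    · exact Or.inl ⟨h ≫ k, Category.assoc _ _ _⟩
    · exact Or.inr ⟨h ≫ k, Category.assoc _ _ _⟩

theorem two_left {X Z X' : C} (i : Z ⟶ X) (b : X' ⟶ X) : two i b i := Or.inl ⟨𝟙 _, Category.id_comp _⟩

theorem two_right {X Z X' : C} (i : Z ⟶ X) (b : X' ⟶ X) : two i b b := Or.inr ⟨𝟙 _, Category.id_comp _⟩

theorem two_le_iff {X Z X' : C} {i : Z ⟶ X} {b : X' ⟶ X} {R : Sieve X} : two i b ≤ R ↔ R i ∧ R b := by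
  constructor
  · intro h
    exact ⟨h _ (two_left i b), h _ (two_right i b)⟩
  · rintro ⟨h1, h2⟩ T g (⟨k, rfl⟩ | ⟨k, rfl⟩)
    · exact R.downward_closed h1 k
    · exact R.downward_closed h2 k

/-- Base change of the sieve generated by two morphisms. -/
theorem two_pullback {X Z X' Y Z₁ X₁ : C} {i : Z ⟶ X} {b : X' ⟶ X} (g : Y ⟶ X) {b₁ : X₁ ⟶ Y}
    {gX : X₁ ⟶ X'} (hX : IsPullback gX b₁ b g) {i₁ : Z₁ ⟶ Y} {gZ : Z₁ ⟶ Z} (hZ : IsPullback gZ i₁ i g) :
    (two i b).pullback g = two i₁ b₁ := by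
  ext T a
  constructor
  · rintro (⟨k, hk⟩ | ⟨k, hk⟩)
    · exact Or.inl ⟨hZ.lift k a hk, hZ.lift_snd _ _ _⟩
    · exact Or.inr ⟨hX.lift k a hk, hX.lift_snd _ _ _⟩
  · rintro (⟨k, rfl⟩ | ⟨k, rfl⟩)
    · exact Or.inl ⟨k ≫ gZ, by rw [Category.assoc, hZ.w, Category.assoc]⟩
    · exact Or.inr ⟨k ≫ gX, by rw [Category.assoc, hX.w, Category.assoc]⟩

/-- Transitivity. -/
theorem mem_of_two_mem {L : GrothendieckTopology C} {X Z X' : C} {i : Z ⟶ X} {b : X' ⟶ X}
    (h : two i b ∈ L X) {R : Sieve X} (h1 : R.pullback i ∈ L Z) (h2 : R.pullback b ∈ L X') : R ∈ L X := by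
  refine L.transitive h R ?_
  rintro T g (⟨k, rfl⟩ | ⟨k, rfl⟩)
  · rw [Sieve.pullback_comp]
    exact L.pullback_stable k h1
  · rw [Sieve.pullback_comp]
    exact L.pullback_stable k h2

/-- The square condition gives the sheaf condition for the sieve generated by the two morphisms. -/
theorem isSheafFor_two {F : Cᵒᵖ ⥤ Type w} {E Z X' X : C} {e : E ⟶ X'} {π : E ⟶ Z} {b : X' ⟶ X} {i : Z ⟶ X}
    (hc : e ≫ b = π ≫ i)
    (h : ∀ (t : F.obj (op Z)) (s' : F.obj (op X')), F.map π.op t = F.map e.op s' →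
      ∃! s : F.obj (op X), F.map i.op s = t ∧ F.map b.op s = s') :
    Presieve.IsSheafFor F (two i b).arrows := by
  intro x hx
  have key : ∀ {T T' : C} (k : T' ⟶ T) (g : T ⟶ X) (hg : two i b g) (g' : T' ⟶ X) (hg' : two i b g')
      (_ : k ≫ g = g'), F.map k.op (x g hg) = x g' hg' := by
    intro T T' k g hg g' hg' e'
    have := hx k (𝟙 T') hg hg' (by rw [e', Category.id_comp])
    rw [this, op_id, F.map_id]
    rfl
  obtain ⟨s, ⟨hs1, hs2⟩, huniq⟩ := h (x i (two_left i b)) (x b (two_right i b)) (by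
    have hE : two i b (π ≫ i) := (two i b).downward_closed (two_left i b) π
    rw [key π i (two_left i b) (π ≫ i) hE rfl, key e b (two_right i b) (π ≫ i) hE hc])
  refine ⟨s, ?_, ?_⟩
  · rintro T g (⟨k, rfl⟩ | ⟨k, rfl⟩)
    · rw [← key k i (two_left i b) _ _ rfl, ← hs1, op_comp, F.map_comp]
      rfl
    · rw [← key k b (two_right i b) _ _ rfl, ← hs2, op_comp, F.map_comp]
      rfl
  · intro s₁ hs₁
    exact huniq s₁ ⟨hs₁ i (two_left i b), hs₁ b (two_right i b)⟩

/-- The converse, for a fibre square with `i` a monomorphism, when the two pullbacks of `s'` along each pair of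
morphisms equalized by `b` agree. -/
theorem existsUnique_of_isSheafFor_two {F : Cᵒᵖ ⥤ Type w} {E Z X' X : C} {e : E ⟶ X'} {π : E ⟶ Z} {b : X' ⟶ X}
    {i : Z ⟶ X} [Mono i] (hsq : IsPullback e π b i) (h : Presieve.IsSheafFor F (two i b).arrows)
    (t : F.obj (op Z)) (s' : F.obj (op X')) (hts : F.map π.op t = F.map e.op s')
    (hreg : ∀ (T : C) (a₁ a₂ : T ⟶ X'), a₁ ≫ b = a₂ ≫ b → F.map a₁.op s' = F.map a₂.op s') :
    ∃! s : F.obj (op X), F.map i.op s = t ∧ F.map b.op s = s' := by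
  classical
  let x : Presieve.FamilyOfElements F (two i b).arrows := fun T g hg =>
    if h1 : ∃ k : T ⟶ Z, k ≫ i = g then F.map h1.choose.op t
    else F.map (hg.resolve_left h1).choose.op s'
  have hx1 : ∀ {T : C} (g : T ⟶ X) (hg : two i b g) (k : T ⟶ Z), k ≫ i = g → x g hg = F.map k.op t := by
    intro T g hg k hk
    have h1 : ∃ k : T ⟶ Z, k ≫ i = g := ⟨k, hk⟩
    have h2 : h1.choose = k := (cancel_mono i).1 (h1.choose_spec.trans hk.symm)
    simp only [x, dif_pos h1, h2]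
  have hx2 : ∀ {T : C} (g : T ⟶ X) (hg : two i b g) (k : T ⟶ X'), k ≫ b = g → x g hg = F.map k.op s' := by
    intro T g hg k hk
    by_cases h1 : ∃ k : T ⟶ Z, k ≫ i = g
    · obtain ⟨l, hl⟩ := h1
      rw [hx1 g hg l hl]
      have h3 : k = hsq.lift k l (hk.trans hl.symm) ≫ e := (hsq.lift_fst _ _ _).symm
      have h4 : l = hsq.lift k l (hk.trans hl.symm) ≫ π := (hsq.lift_snd _ _ _).symm
      conv_rhs => rw [h3]
      conv_lhs => rw [h4]
      rw [op_comp, op_comp, F.map_comp, F.map_comp]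
      exact congrArg _ hts
    · simp only [x, dif_neg h1]
      exact hreg T _ _ ((hg.resolve_left h1).choose_spec.trans hk.symm)
  have hx : x.Compatible := by
    intro T₁ T₂ W g₁ g₂ f₁ f₂ h₁ h₂ hc
    have key : ∀ {T : C} (g : W ⟶ T) (f : T ⟶ X) (hf : two i b f) (hgf : two i b (g ≫ f)),
        F.map g.op (x f hf) = x (g ≫ f) hgf := by
      intro T g f hf hgf
      rcases id hf with ⟨k, hk⟩ | ⟨k, hk⟩
      · rw [hx1 f hf k hk, hx1 (g ≫ f) hgf (g ≫ k) (by rw [Category.assoc, hk]), op_comp, F.map_comp]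
        rfl
      · rw [hx2 f hf k hk, hx2 (g ≫ f) hgf (g ≫ k) (by rw [Category.assoc, hk]), op_comp, F.map_comp]
        rfl
    have key2 : ∀ (g g' : W ⟶ X) (hg : two i b g) (hg' : two i b g'), g = g' → x g hg = x g' hg' := by
      rintro g _ hg hg' rfl
      rfl
    have e1 : (two i b) (g₁ ≫ f₁) := (two i b).downward_closed h₁ g₁
    have e2 : (two i b) (g₂ ≫ f₂) := (two i b).downward_closed h₂ g₂
    rw [key g₁ f₁ h₁ e1, key g₂ f₂ h₂ e2]
    exact key2 _ _ e1 e2 hc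
  obtain ⟨s, hs, huniq⟩ := h x hx
  refine ⟨s, ⟨?_, ?_⟩, ?_⟩
  · rw [hs i (two_left i b), hx1 i (two_left i b) (𝟙 _) (Category.id_comp _), op_id, F.map_id]
    rfl
  · rw [hs b (two_right i b), hx2 b (two_right i b) (𝟙 _) (Category.id_comp _), op_id, F.map_id]
    rfl
  · rintro s₁ ⟨h1, h2⟩
    apply huniq
    intro T g hg
    rcases id hg with ⟨k, hk⟩ | ⟨k, hk⟩
    · rw [hx1 g hg k hk, ← h1, ← hk, op_comp, F.map_comp]
      rfl
    · rw [hx2 g hg k hk, ← h2, ← hk, op_comp, F.map_comp]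
      rfl

end K347.Two
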